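import Mathlib
import Cfsg.Agent.Lib.Helper16.T74Defs

/-!
# S3174 piece T74-ABIND: `exists_avoiding_of_card`
-/

namespace Cfsg.Agent.Helper16.T74

open scoped commutatorElement
open Subgroup

universe u

/-- in a group whose squares lie in `{1, c}` (`c` a central involution), any two elements commute
up to `c` -/
theorem t74_abind_comm {A : Type*} [Group A] (c : A) (hc2 : c ^ 2 = 1) (hcz : c ∈ center A)
    (hsq : ∀ a : A, a ^ 2 = 1 ∨ a ^ 2 = c) (x y : A) :
    y * x = x * y ∨ y * x = c * (x * y) := by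
  have hcc : c * c = 1 := by rw [← pow_two]; exact hc2
  have hcomm : ∀ g : A, g * c = c * g := fun g => Subgroup.mem_center_iff.1 hcz g
  have e1 : y * x = x⁻¹ * (x * y) ^ 2 * y⁻¹ := by rw [pow_two]; group
  have e2 : x * y = x⁻¹ * (x ^ 2 * y ^ 2) * y⁻¹ := by rw [pow_two, pow_two]; group
  have hE : (x * y) ^ 2 = x ^ 2 * y ^ 2 ∨ (x * y) ^ 2 = c * (x ^ 2 * y ^ 2) := by
    rcases hsq (x * y) with h1 | h1 <;> rcases hsq x with h2 | h2 <;>
      rcases hsq y with h3 | h3 <;> rw [h1, h2, h3] <;> simp [hcc]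
  rcases hE with h | h
  · left
    rw [e1, h, ← e2]
  · right
    calc y * x = x⁻¹ * (c * (x ^ 2 * y ^ 2)) * y⁻¹ := by rw [e1, h]
      _ = (x⁻¹ * c) * (x ^ 2 * y ^ 2) * y⁻¹ := by group
      _ = (c * x⁻¹) * (x ^ 2 * y ^ 2) * y⁻¹ := by rw [hcomm x⁻¹]
      _ = c * (x⁻¹ * (x ^ 2 * y ^ 2) * y⁻¹) := by group
      _ = c * (x * y) := by rw [← e2]

/-- an element outside a short list -/
theorem t74_abind_exists_not_mem {A : Type*} [Finite A] (l : List A)
    (h : l.length < Nat.card A) : ∃ z, z ∉ l := by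
  classical
  by_contra hcon
  simp only [not_exists, not_not] at hcon
  haveI := Fintype.ofFinite A
  have h1 : Fintype.card A ≤ l.toFinset.card := by
    have : l.toFinset = Finset.univ :=
      Finset.eq_univ_iff_forall.2 (fun z => List.mem_toFinset.2 (hcon z))
    rw [this, Finset.card_univ]
  have h2 := List.toFinset_card_le l
  rw [Nat.card_eq_fintype_card] at h
  omega

/-- existence of a non-central-looking involution -/
theorem t74_abind_claim {A : Type*} [Group A] [Finite A] (c : A) (hc1 : c ≠ 1) (hc2 : c ^ 2 = 1)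
    (hcz : c ∈ center A) (hsq : ∀ a : A, a ^ 2 = 1 ∨ a ^ 2 = c) (hA : 8 < Nat.card A) :
    ∃ a : A, a ^ 2 = 1 ∧ a ≠ 1 ∧ a ≠ c := by
  by_contra hcon
  simp only [not_exists, not_and, not_not] at hcon
  have hcc : c * c = 1 := by rw [← pow_two]; exact hc2
  have hcomm : ∀ g : A, g * c = c * g := fun g => Subgroup.mem_center_iff.1 hcz g
  have hx2 : ∀ x : A, x ≠ 1 → x ≠ c → x ^ 2 = c := by
    intro x h1 h2
    rcases hsq x with h | h
    · exact absurd (hcon x h h1) h2
    · exact h
  have key : ∀ x y : A, x ≠ 1 → x ≠ c → y ≠ 1 → y ≠ c → x * y ≠ 1 → x * y ≠ c →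
      y * x = c * (x * y) := by
    intro x y hx1 hxc hy1 hyc hxy1 hxyc
    have e1 : y * x = x⁻¹ * (x * y) ^ 2 * y⁻¹ := by rw [pow_two]; group
    have e2 : x * y = x⁻¹ * (x ^ 2 * y ^ 2) * y⁻¹ := by rw [pow_two, pow_two]; group
    rw [hx2 _ hxy1 hxyc] at e1
    rw [hx2 x hx1 hxc, hx2 y hy1 hyc, hcc, mul_one] at e2
    calc y * x = x⁻¹ * c * y⁻¹ := e1
      _ = c * x⁻¹ * y⁻¹ := by rw [hcomm x⁻¹]
      _ = c * (x⁻¹ * y⁻¹) := by rw [mul_assoc]
      _ = c * (x * y) := by rw [← e2]
  obtain ⟨x, hx⟩ := t74_abind_exists_not_mem [1, c] (by simp only [List.length_cons, List.length_nil]; omega)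
  obtain ⟨y, hy⟩ := t74_abind_exists_not_mem [1, c, x⁻¹, x⁻¹ * c]
    (by simp only [List.length_cons, List.length_nil]; omega)
  obtain ⟨z, hz⟩ := t74_abind_exists_not_mem
    [1, c, x⁻¹, x⁻¹ * c, y⁻¹, y⁻¹ * c, (x * y)⁻¹, (x * y)⁻¹ * c]
    (by simp only [List.length_cons, List.length_nil]; omega)
  simp only [List.mem_cons, List.not_mem_nil, or_false, not_or] at hx hy hz
  obtain ⟨hx1, hxc⟩ := hx
  obtain ⟨hy1, hyc, hy3, hy4⟩ := hy
  obtain ⟨hz1, hzc, hz3, hz4, hz5, hz6, hz7, hz8⟩ := hz
  have hxy1 : x * y ≠ 1 := fun h => hy3 (eq_inv_of_mul_eq_one_right h)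
  have hxyc : x * y ≠ c := fun h => hy4 (eq_inv_mul_of_mul_eq h)
  have hxz1 : x * z ≠ 1 := fun h => hz3 (eq_inv_of_mul_eq_one_right h)
  have hxzc : x * z ≠ c := fun h => hz4 (eq_inv_mul_of_mul_eq h)
  have hyz1 : y * z ≠ 1 := fun h => hz5 (eq_inv_of_mul_eq_one_right h)
  have hyzc : y * z ≠ c := fun h => hz6 (eq_inv_mul_of_mul_eq h)
  have hxyz1 : x * y * z ≠ 1 := fun h => hz7 (eq_inv_of_mul_eq_one_right h)
  have hxyzc : x * y * z ≠ c := fun h => hz8 (eq_inv_mul_of_mul_eq h)
  have h1 := key x z hx1 hxc hz1 hzc hxz1 hxzc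
  have h2 := key y z hy1 hyc hz1 hzc hyz1 hyzc
  have h3 := key (x * y) z hxy1 hxyc hz1 hzc hxyz1 hxyzc
  have h4 : z * (x * y) = x * y * z := by
    calc z * (x * y) = (z * x) * y := by group
      _ = c * (x * z) * y := by rw [h1]
      _ = c * x * (z * y) := by group
      _ = c * x * (c * (y * z)) := by rw [h2]
      _ = (c * (x * c)) * (y * z) := by group
      _ = (c * (c * x)) * (y * z) := by rw [hcomm x]
      _ = (c * c) * (x * y * z) := by group
      _ = x * y * z := by rw [hcc, one_mul]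
  rw [h4] at h3
  apply hc1
  have h5 : 1 * (x * y * z) = c * (x * y * z) := by rw [one_mul]; exact h3
  exact (mul_right_cancel h5).symm

/-- the centralizer of any element has index at most two -/
theorem t74_abind_card_centralizer {A : Type*} [Group A] [Finite A] (c : A) (hc2 : c ^ 2 = 1)
    (hcz : c ∈ center A) (hsq : ∀ a : A, a ^ 2 = 1 ∨ a ^ 2 = c) (a : A) :
    Nat.card A ≤ 2 * Nat.card ↥(centralizer ({a} : Set A)) := by
  have hcc : c * c = 1 := by rw [← pow_two]; exact hc2
  have hcomm : ∀ g : A, g * c = c * g := fun g => Subgroup.mem_center_iff.1 hcz g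
  set B := centralizer ({a} : Set A) with hB
  have hmem : ∀ g, g ∈ B ↔ a * g = g * a := by
    intro g
    rw [hB, Subgroup.mem_centralizer_iff]
    simp
  -- conjugation form
  have hnot : ∀ g, g ∉ B → g * a * g⁻¹ = c * a := by
    intro g hg
    rcases t74_abind_comm c hc2 hcz hsq a g with h | h
    · exact absurd ((hmem g).2 h.symm) hg
    · rw [h]; group
  by_cases htop : B = ⊤
  · rw [htop, Subgroup.card_top]; omega
  · obtain ⟨g₀, hg₀⟩ : ∃ g, g ∉ B := by
      by_contra hcon
      simp only [not_exists, not_not] at hcon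
      exact htop (eq_top_iff.2 fun g _ => hcon g)
    have hidx : B.index = 2 := by
      rw [Subgroup.index_eq_two_iff]
      refine ⟨g₀⁻¹, fun b => ?_⟩
      by_cases hb : b ∈ B
      · right
        refine ⟨hb, fun h => hg₀ ?_⟩
        have : g₀⁻¹ ∈ B := (B.mul_mem_cancel_left hb).1 h
        exact (B.inv_mem_iff).1 this
      · left
        refine ⟨?_, hb⟩
        rw [hmem]
        have hb' := hnot b hb
        have hg' := hnot g₀ hg₀
        -- `g₀⁻¹ a g₀ = c a`
        have hg'' : g₀⁻¹ * a * g₀ = c * a := by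
          have e : a = g₀⁻¹ * (g₀ * a * g₀⁻¹) * g₀ := by group
          have e2 : a = c * (g₀⁻¹ * a * g₀) := by
            conv_lhs => rw [e, hg']
            calc g₀⁻¹ * (c * a) * g₀ = (g₀⁻¹ * c) * a * g₀ := by group
              _ = (c * g₀⁻¹) * a * g₀ := by rw [hcomm g₀⁻¹]
              _ = c * (g₀⁻¹ * a * g₀) := by group
          calc g₀⁻¹ * a * g₀ = (c * c) * (g₀⁻¹ * a * g₀) := by rw [hcc, one_mul]
            _ = c * (c * (g₀⁻¹ * a * g₀)) := by group
            _ = c * a := by rw [← e2]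
        have hfin : (b * g₀⁻¹) * a * (b * g₀⁻¹)⁻¹ = a := by
          calc (b * g₀⁻¹) * a * (b * g₀⁻¹)⁻¹ = b * (g₀⁻¹ * a * g₀) * b⁻¹ := by group
            _ = b * (c * a) * b⁻¹ := by rw [hg'']
            _ = (b * c) * a * b⁻¹ := by group
            _ = (c * b) * a * b⁻¹ := by rw [hcomm b]
            _ = c * (b * a * b⁻¹) := by group
            _ = c * (c * a) := by rw [hb']
            _ = (c * c) * a := by group
            _ = a := by rw [hcc, one_mul]
        have : a * (b * g₀⁻¹) = ((b * g₀⁻¹) * a * (b * g₀⁻¹)⁻¹) * (b * g₀⁻¹) := by rw [hfin]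
        rw [this]; group
    rw [← Subgroup.card_mul_index B, hidx]; omega

/-- the induction -/
theorem t74_abind_main : ∀ (n : ℕ) (A : Type u) [Group A] [Finite A] (c : A),
    c ^ 2 = 1 → c ∈ center A → (∀ a : A, a ^ 2 = 1 ∨ a ^ 2 = c) → 4 ^ (n + 1) ≤ Nat.card A →
    ∃ U : Subgroup A, (c ∈ U → c = 1) ∧ 2 ^ n ≤ Nat.card ↥U := by
  intro n
  induction n with
  | zero =>
    intro A _ _ c _ _ _ _
    exact ⟨⊥, fun h => Subgroup.mem_bot.1 h, by simp⟩
  | succ n ih =>
    intro A _ _ c hc2 hcz hsq hA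
    by_cases hc1 : c = 1
    · refine ⟨⊤, fun _ => hc1, ?_⟩
      rw [Subgroup.card_top]
      have h1 : 2 ^ (n + 1) ≤ 4 ^ (n + 1 + 1) := by
        calc 2 ^ (n + 1) ≤ 4 ^ (n + 1) := Nat.pow_le_pow_left (by norm_num) _
          _ ≤ 4 ^ (n + 1 + 1) := Nat.pow_le_pow_right (by norm_num) (by omega)
      omega
    · have h16 : 8 < Nat.card A := by
        have : 16 ≤ 4 ^ (n + 1 + 1) := by
          calc 16 = 4 ^ 2 := by norm_num
            _ ≤ 4 ^ (n + 1 + 1) := Nat.pow_le_pow_right (by norm_num) (by omega)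
        omega
      obtain ⟨a, ha2, ha1, hac⟩ := t74_abind_claim c hc1 hc2 hcz hsq h16
      have hcardB := t74_abind_card_centralizer c hc2 hcz hsq a
      set B := centralizer ({a} : Set A) with hB
      have haB : a ∈ B := by
        rw [hB, Subgroup.mem_centralizer_iff]; simp
      have hcB : c ∈ B := by
        rw [hB, Subgroup.mem_centralizer_iff]
        intro h _
        exact Subgroup.mem_center_iff.1 hcz h
      let a' : B := ⟨a, haB⟩
      let Z : Subgroup B := Subgroup.zpowers a'
      have ha'center : ∀ g : B, g * a' = a' * g := by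
        intro g
        apply Subtype.ext
        have hg : (g : A) ∈ centralizer ({a} : Set A) := g.2
        rw [Subgroup.mem_centralizer_iff] at hg
        exact (hg a (Set.mem_singleton a)).symm
      haveI hZn : Z.Normal := by
        constructor
        intro z hz g
        have hgz : g * z * g⁻¹ = z := by
          obtain ⟨k, rfl⟩ := Subgroup.mem_zpowers_iff.1 hz
          have hc : Commute g a' := ha'center g
          rw [(hc.zpow_right k).eq]; group
        rw [hgz]; exact hz
      have hordera' : orderOf a' = 2 := by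
        haveI : Fact (Nat.Prime 2) := ⟨Nat.prime_two⟩
        apply orderOf_eq_prime
        · apply Subtype.ext
          simpa [a'] using ha2
        · intro h
          exact ha1 (congrArg Subtype.val h)
      have hZcard : Nat.card Z = 2 := by rw [Nat.card_zpowers, hordera']
      have hquot : Nat.card B = Nat.card (B ⧸ Z) * 2 := by
        rw [← hZcard]; exact Subgroup.card_eq_card_quotient_mul_card_subgroup Z
      let cB : B := ⟨c, hcB⟩
      let c' : B ⧸ Z := QuotientGroup.mk cB
      have hc'2 : c' ^ 2 = 1 := by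
        have h1 : cB ^ 2 = 1 := Subtype.ext (by simpa [cB] using hc2)
        change (QuotientGroup.mk cB : B ⧸ Z) ^ 2 = 1
        rw [← QuotientGroup.mk_pow, h1]; rfl
      have hc'z : c' ∈ center (B ⧸ Z) := by
        rw [Subgroup.mem_center_iff]
        intro g
        induction g using QuotientGroup.induction_on with
        | H g =>
          change (QuotientGroup.mk g : B ⧸ Z) * QuotientGroup.mk cB = QuotientGroup.mk cB * QuotientGroup.mk g
          rw [← QuotientGroup.mk_mul, ← QuotientGroup.mk_mul]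
          congr 1
          apply Subtype.ext
          exact Subgroup.mem_center_iff.1 hcz g.1
      have hsq' : ∀ x : B ⧸ Z, x ^ 2 = 1 ∨ x ^ 2 = c' := by
        intro x
        induction x using QuotientGroup.induction_on with
        | H g =>
          rcases hsq g.1 with h | h
          · left
            have h1 : g ^ 2 = 1 := Subtype.ext (by simpa using h)
            rw [← QuotientGroup.mk_pow, h1]; rfl
          · right
            have h1 : g ^ 2 = cB := Subtype.ext (by simpa [cB] using h)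
            rw [← QuotientGroup.mk_pow, h1]
      have hc'1 : c' ≠ 1 := by
        intro h
        have h' : cB ∈ Z := (QuotientGroup.eq_one_iff cB).1 h
        obtain ⟨k, hk⟩ := Subgroup.mem_zpowers_iff.1 h'
        have hk2 : a' ^ k = 1 ∨ a' ^ k = a' := by
          rw [← zpow_mod_orderOf, hordera']
          have h22 : ((2 : ℕ) : ℤ) = 2 := rfl
          rw [h22]
          rcases Int.emod_two_eq_zero_or_one k with h0 | h1
          · left; rw [h0, zpow_zero]
          · right; rw [h1, zpow_one]
        rcases hk2 with h1 | h1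
        · rw [h1] at hk
          exact hc1 (congrArg Subtype.val hk).symm
        · rw [h1] at hk
          exact hac (congrArg Subtype.val hk)
      have hA' : 4 ^ (n + 1) ≤ Nat.card (B ⧸ Z) := by
        have : 4 ^ (n + 1 + 1) = 4 * 4 ^ (n + 1) := by ring
        omega
      obtain ⟨U', hU'c, hU'card⟩ := ih (B ⧸ Z) c' hc'2 hc'z hsq' hA'
      let V : Subgroup B := U'.comap (QuotientGroup.mk' Z)
      refine ⟨V.map B.subtype, ?_, ?_⟩
      · intro hcU
        exfalso
        obtain ⟨b, hbV, hbc⟩ := Subgroup.mem_map.1 hcU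
        have hbe : b = cB := Subtype.ext hbc
        rw [hbe] at hbV
        exact hc'1 (hU'c hbV)
      · rw [Subgroup.card_map_of_injective B.subtype_injective]
        have hidx : V.index = U'.index :=
          Subgroup.index_comap_of_surjective U' (QuotientGroup.mk'_surjective Z)
        have h1 := Subgroup.card_mul_index V
        have h2 := Subgroup.card_mul_index U'
        rw [hidx, hquot, ← h2] at h1
        have hpos : 0 < U'.index := Nat.pos_of_ne_zero Subgroup.index_ne_zero_of_finite
        have h3 : Nat.card V = Nat.card U' * 2 := by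
          apply Nat.eq_of_mul_eq_mul_right hpos
          rw [h1]; ring
        rw [h3, pow_succ]
        omega

/-- T74-ABIND -/
theorem exists_avoiding_of_card (n : ℕ) {A : Type*} [Group A] [Finite A] (c : A)
    (hc2 : c ^ 2 = 1) (hcz : c ∈ center A) (hsq : ∀ a : A, a ^ 2 = 1 ∨ a ^ 2 = c)
    (hA : 4 ^ (n + 1) ≤ Nat.card A) :
    ∃ U : Subgroup A, (c ∈ U → c = 1) ∧ 2 ^ n ≤ Nat.card ↥U :=
  t74_abind_main n A c hc2 hcz hsq hA

end Cfsg.Agent.Helper16.T74
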