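import Mathlib
import Cfsg.Agent.Lib.Helper16.T74Defs

namespace Cfsg.Agent.Helper16.T74

open scoped commutatorElement
open Subgroup

/-- T74-EMBF -/
theorem exists_functional {T : Type*} [Group T] [Finite T] (W K : Subgroup T) (hKW : K ≤ W)
    (hKn : ∀ w ∈ W, ∀ k ∈ K, w * k * w⁻¹ ∈ K)
    (hsq : ∀ w ∈ W, w ^ 2 ∈ K) (hcomm : ∀ u ∈ W, ∀ v ∈ W, ⁅u, v⁆ ∈ K)
    (s : T) (hs : s ∈ W) (hsK : s ∉ K) :
    ∃ f : T → ZMod 2, (∀ u ∈ W, ∀ v ∈ W, f (u * v) = f u + f v) ∧ (∀ k ∈ K, f k = 0) ∧ f s = 1 := by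
  classical
  let K' : Subgroup ↥W := K.subgroupOf W
  have hK'n : K'.Normal := by
    constructor
    intro k hk w
    rw [Subgroup.mem_subgroupOf] at hk ⊢
    simpa using hKn w.1 w.2 k.1 hk
  -- the quotient is commutative
  have hmc : ∀ a b : ↥W ⧸ K', a * b = b * a := by
    intro a b
    induction a using QuotientGroup.induction_on with
    | H u =>
      induction b using QuotientGroup.induction_on with
      | H v =>
        rw [← QuotientGroup.mk_mul, ← QuotientGroup.mk_mul, QuotientGroup.eq]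
        rw [Subgroup.mem_subgroupOf]
        -- (u v)⁻¹ (v u) = v⁻¹ u⁻¹ v u = ⁅v⁻¹, u⁻¹⁆
        have h := hcomm (v.1)⁻¹ (W.inv_mem v.2) (u.1)⁻¹ (W.inv_mem u.2)
        rw [commutatorElement_def] at h
        simpa [mul_assoc] using h
  let cg : CommGroup (↥W ⧸ K') := { (inferInstance : Group (↥W ⧸ K')) with mul_comm := hmc }
  have hsq' : ∀ a : ↥W ⧸ K', a * a = 1 := by
    intro a
    induction a using QuotientGroup.induction_on with
    | H u =>
      rw [← QuotientGroup.mk_mul, QuotientGroup.eq_one_iff, Subgroup.mem_subgroupOf]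
      have := hsq u.1 u.2
      simpa [pow_two] using this
  have htors : ∀ x : Additive (↥W ⧸ K'), (2 : ℕ) • x = 0 := by
    intro x
    have := hsq' (Additive.toMul x)
    rw [two_nsmul]
    exact congrArg Additive.ofMul this
  let _ : Module (ZMod 2) (Additive (↥W ⧸ K')) := AddCommGroup.zmodModule htors
  let v : Additive (↥W ⧸ K') := Additive.ofMul (QuotientGroup.mk ⟨s, hs⟩)
  have hv : v ≠ 0 := by
    intro h
    have h1 : (QuotientGroup.mk ⟨s, hs⟩ : ↥W ⧸ K') = 1 := congrArg Additive.toMul h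
    rw [QuotientGroup.eq_one_iff, Subgroup.mem_subgroupOf] at h1
    exact hsK h1
  have hex : ∃ φ : Module.Dual (ZMod 2) (Additive (↥W ⧸ K')), φ v ≠ 0 := by
    by_contra hcon
    simp only [not_exists, not_not] at hcon
    exact hv ((Module.forall_dual_apply_eq_zero_iff (ZMod 2) v).1 hcon)
  obtain ⟨φ, hφ⟩ := hex
  refine ⟨fun t => if h : t ∈ W then φ (Additive.ofMul (QuotientGroup.mk ⟨t, h⟩)) else 0, ?_, ?_, ?_⟩
  · intro u hu w hw
    simp only [dif_pos hu, dif_pos hw, dif_pos (W.mul_mem hu hw)]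
    rw [← map_add]
    rfl
  · intro k hk
    simp only [dif_pos (hKW hk)]
    have h1 : (QuotientGroup.mk ⟨k, hKW hk⟩ : ↥W ⧸ K') = 1 := by
      rw [QuotientGroup.eq_one_iff, Subgroup.mem_subgroupOf]
      exact hk
    rw [h1]
    exact map_zero φ
  · simp only [dif_pos hs]
    have : ∀ y : ZMod 2, y ≠ 0 → y = 1 := by decide
    exact this _ hφ

end Cfsg.Agent.Helper16.T74
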