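import Mathlib
import Cfsg.Agent.Lib.Helper16.T74Defs
import Cfsg.Agent.Lib.T74.T74ABIND
import Cfsg.Agent.Lib.T75.T75KERF

set_option autoImplicit false

namespace Cfsg.Agent.Helper16.T74

open scoped commutatorElement
open Subgroup

/-- the central elements of square one -/
def t74_abcenb_omega (A : Type*) [Group A] : Subgroup A where
  carrier := {a | a ∈ center A ∧ a ^ 2 = 1}
  one_mem' := ⟨one_mem _, one_pow 2⟩
  mul_mem' := by
    rintro a b ⟨ha, ha2⟩ ⟨hb, hb2⟩
    refine ⟨mul_mem ha hb, ?_⟩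
    have hc : Commute a b := (Subgroup.mem_center_iff.1 ha b).symm
    rw [hc.mul_pow, ha2, hb2, one_mul]
  inv_mem' := by
    rintro a ⟨ha, ha2⟩
    exact ⟨inv_mem ha, by rw [inv_pow, ha2, inv_one]⟩

theorem t74_abcenb_mem_omega {A : Type*} [Group A] (a : A) :
    a ∈ t74_abcenb_omega A ↔ a ∈ center A ∧ a ^ 2 = 1 := Iff.rfl

/-- the centre is at most twice as large as its square-one part -/
theorem t74_abcenb_card_center_le {A : Type*} [Group A] [Finite A] (c : A)
    (hsq : ∀ a : A, a ^ 2 = 1 ∨ a ^ 2 = c) :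
    Nat.card ↥(center A) ≤ 2 * Nat.card ↥(t74_abcenb_omega A) := by
  classical
  -- the squaring hom on the centre
  let f : ↥(center A) →* ↥(center A) := MonoidHom.mk' (fun z => z ^ 2) (by
    intro a b
    have hc : Commute a b := by
      apply Subtype.ext
      have := Subgroup.mem_center_iff.1 a.2 (b : A)
      simpa using this.symm
    exact hc.mul_pow 2)
  have hker : Nat.card ↥f.ker ≤ Nat.card ↥(t74_abcenb_omega A) := by
    refine Nat.card_le_card_of_injective
      (fun z => (⟨((z : ↥(center A)) : A), ⟨(z : ↥(center A)).2, ?_⟩⟩ : ↥(t74_abcenb_omega A))) ?_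
    · have h := z.2
      rw [MonoidHom.mem_ker] at h
      have h2 : ((z : ↥(center A)) ^ 2 : ↥(center A)) = 1 := h
      have := congrArg (fun t : ↥(center A) => (t : A)) h2
      simpa using this
    · intro z1 z2 h
      have : ((z1 : ↥(center A)) : A) = ((z2 : ↥(center A)) : A) := by
        have h' := congrArg (fun t : ↥(t74_abcenb_omega A) => (t : A)) h
        simpa using h'
      exact Subtype.ext (Subtype.ext this)
  have hrange : Nat.card ↥f.range ≤ 2 := by
    by_cases hc : ∃ z : ↥(center A), (z : A) ^ 2 = c ∧ c ≠ 1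
    · obtain ⟨z0, hz0, _⟩ := hc
      have hsub : (f.range : Set ↥(center A)) ⊆ {1, z0 ^ 2} := by
        rintro _ ⟨z, rfl⟩
        show z ^ 2 ∈ ({1, z0 ^ 2} : Set ↥(center A))
        rcases hsq (z : A) with h | h
        · left
          exact Subtype.ext (by simpa using h)
        · right
          exact Subtype.ext (by simp [h, hz0])
      calc Nat.card ↥f.range = Set.ncard (f.range : Set ↥(center A)) := by
            rw [← Nat.card_coe_set_eq]; rfl
        _ ≤ Set.ncard ({1, z0 ^ 2} : Set ↥(center A)) :=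
            Set.ncard_le_ncard hsub (Set.toFinite _)
        _ ≤ 2 := by
            refine le_trans (Set.ncard_insert_le _ _) ?_
            simp
    · have hsub : (f.range : Set ↥(center A)) ⊆ {1} := by
        rintro _ ⟨z, rfl⟩
        show z ^ 2 ∈ ({1} : Set ↥(center A))
        rcases hsq (z : A) with h | h
        · exact Subtype.ext (by simpa using h)
        · by_cases hc1 : c = 1
          · exact Subtype.ext (by simp [h, hc1])
          · exact absurd ⟨z, h, hc1⟩ hc
      calc Nat.card ↥f.range = Set.ncard (f.range : Set ↥(center A)) := by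
            rw [← Nat.card_coe_set_eq]; rfl
        _ ≤ Set.ncard ({1} : Set ↥(center A)) :=
            Set.ncard_le_ncard hsub (Set.toFinite _)
        _ ≤ 2 := by simp
  have hmul : Nat.card ↥f.ker * Nat.card ↥f.range = Nat.card ↥(center A) := by
    rw [← Subgroup.index_ker]
    exact Subgroup.card_mul_index f.ker
  calc Nat.card ↥(center A) = Nat.card ↥f.ker * Nat.card ↥f.range := hmul.symm
    _ ≤ Nat.card ↥(t74_abcenb_omega A) * 2 := Nat.mul_le_mul hker hrange
    _ = 2 * Nat.card ↥(t74_abcenb_omega A) := Nat.mul_comm _ _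

/-- T74-ABCEN -/
theorem exists_avoiding_of_center {A : Type*} [Group A] [Finite A] (c : A) (hc1 : c ≠ 1)
    (hc2 : c ^ 2 = 1) (hcz : c ∈ center A) (hsq : ∀ a : A, a ^ 2 = 1 ∨ a ^ 2 = c)
    (hA : Nat.card A = 2 ^ 9) (hZ : 2 ^ 5 ≤ Nat.card ↥(center A)) :
    ∃ U : Subgroup A, c ∉ U ∧ 2 ^ 5 ≤ Nat.card ↥U := by
  classical
  have hp : Fact (Nat.Prime 2) := ⟨Nat.prime_two⟩
  have hΩ16' : 16 ≤ Nat.card ↥(t74_abcenb_omega A) := by
    have h := t74_abcenb_card_center_le c hsq
    omega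
  set Ω := t74_abcenb_omega A with hΩ
  have hΩ16 : 16 ≤ Nat.card ↥Ω := hΩ16'
  have hcΩ : c ∈ Ω := ⟨hcz, hc2⟩
  -- a hyperplane of Ω avoiding c
  obtain ⟨Ω0, hΩ0le, hcΩ0, hcard0⟩ := Cfsg.Agent.Helper16.T75.exists_index_two Ω ⊥ bot_le
    (by
      intro a _ k hk
      rw [Subgroup.mem_bot] at hk
      rw [hk, mul_one, mul_inv_cancel]; exact one_mem _)
    (by
      intro a ha
      rw [Subgroup.mem_bot]; exact ha.2)
    (by
      intro u hu v _
      rw [Subgroup.mem_bot, commutatorElement_def]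
      have h := Subgroup.mem_center_iff.1 hu.1 v
      rw [← h]; group)
    c hcΩ (by rw [Subgroup.mem_bot]; exact hc1)
  have h8 : 8 ≤ Nat.card ↥Ω0 := by omega
  -- a subgroup of order exactly 8 inside Ω0
  have hdvd0 : Nat.card ↥Ω0 ∣ 2 ^ 9 := by
    rw [← hA]; exact Subgroup.card_subgroup_dvd_card Ω0
  obtain ⟨j, hj9, hj⟩ := (Nat.dvd_prime_pow Nat.prime_two).1 hdvd0
  have hj3 : 3 ≤ j := by
    by_contra hcon
    have hj2 : j ≤ 2 := by omega
    have : Nat.card ↥Ω0 ≤ 2 ^ 2 := by
      rw [hj]; exact Nat.pow_le_pow_right (by norm_num) hj2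
    omega
  have hd8 : 2 ^ 3 ∣ Nat.card ↥Ω0 := by
    rw [hj]; exact pow_dvd_pow 2 hj3
  obtain ⟨K, hK⟩ := Sylow.exists_subgroup_card_pow_prime 2 hd8
  set Ω1 : Subgroup A := K.map Ω0.subtype with hΩ1
  have hΩ1le : Ω1 ≤ Ω0 := by
    rintro _ ⟨y, _, rfl⟩
    exact y.2
  have hcardΩ1 : Nat.card ↥Ω1 = 8 := by
    rw [hΩ1, Nat.card_congr (Subgroup.equivMapOfInjective K Ω0.subtype
      (Subgroup.subtype_injective Ω0)).toEquiv.symm, hK]
    norm_num
  have hcΩ1 : c ∉ Ω1 := fun h => hcΩ0 (hΩ1le h)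
  have hΩ1cen : Ω1 ≤ center A := fun x hx => (hΩ0le (hΩ1le hx)).1
  have hΩ1n : Ω1.Normal := by
    constructor
    intro n hn g
    have h := Subgroup.mem_center_iff.1 (hΩ1cen hn) g
    have : g * n * g⁻¹ = n := by rw [h]; group
    rw [this]; exact hn
  -- the quotient
  have hcardQ : Nat.card (A ⧸ Ω1) = 64 := by
    have h := Subgroup.card_eq_card_quotient_mul_card_subgroup Ω1
    rw [hA, hcardΩ1] at h
    omega
  let mk : A →* A ⧸ Ω1 := QuotientGroup.mk' Ω1
  have hmk_surj : Function.Surjective mk := QuotientGroup.mk'_surjective Ω1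
  set c0 : A ⧸ Ω1 := mk c with hc0
  have hc0ne : c0 ≠ 1 := by
    intro h
    apply hcΩ1
    have : (c : A ⧸ Ω1) = 1 := h
    exact (QuotientGroup.eq_one_iff c).1 this
  have hc0sq : c0 ^ 2 = 1 := by
    rw [hc0, ← map_pow, hc2, map_one]
  have hc0cen : c0 ∈ center (A ⧸ Ω1) := by
    rw [Subgroup.mem_center_iff]
    intro g
    obtain ⟨a, rfl⟩ := hmk_surj g
    rw [hc0, ← map_mul, ← map_mul, Subgroup.mem_center_iff.1 hcz a]
  have hsq0 : ∀ a : A ⧸ Ω1, a ^ 2 = 1 ∨ a ^ 2 = c0 := by
    intro g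
    obtain ⟨a, rfl⟩ := hmk_surj g
    rcases hsq a with h | h
    · left; rw [← map_pow, h, map_one]
    · right; rw [← map_pow, h]
  obtain ⟨U0, hU0c, hU0card⟩ := exists_avoiding_of_card 2 c0 hc0sq hc0cen hsq0 (by
    rw [hcardQ]; norm_num)
  refine ⟨U0.comap mk, ?_, ?_⟩
  · intro h
    rw [Subgroup.mem_comap] at h
    exact hc0ne (hU0c h)
  · -- card computation
    have hidx : (U0.comap mk).index = U0.index :=
      Subgroup.index_comap_of_surjective U0 hmk_surj
    have h1 : Nat.card ↥(U0.comap mk) * (U0.comap mk).index = 2 ^ 9 := by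
      rw [Subgroup.card_mul_index, hA]
    have h2 : Nat.card ↥U0 * U0.index = 64 := by
      rw [Subgroup.card_mul_index, hcardQ]
    rw [hidx] at h1
    have hpos : 0 < U0.index := Nat.pos_of_ne_zero (Subgroup.index_ne_zero_of_finite)
    have h3 : Nat.card ↥(U0.comap mk) * U0.index = (8 * Nat.card ↥U0) * U0.index := by
      rw [h1, Nat.mul_assoc, h2]; norm_num
    have h4 : Nat.card ↥(U0.comap mk) = 8 * Nat.card ↥U0 := Nat.eq_of_mul_eq_mul_right hpos h3
    rw [h4]
    have : 2 ^ 2 ≤ Nat.card ↥U0 := hU0card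
    omega

end Cfsg.Agent.Helper16.T74
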