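import Mathlib
import Cfsg.Agent.Lib.Helper16.T74Defs
import Cfsg.Agent.Lib.T74.T74ABCEN

set_option autoImplicit false

namespace Cfsg.Agent.Helper16.T74

open scoped commutatorElement
open Subgroup

/-- card of a preimage under the quotient map -/
theorem t74_abbrb_card_comap {G : Type*} [Group G] [Finite G] (N : Subgroup G) [N.Normal]
    (H : Subgroup (G ⧸ N)) :
    Nat.card ↥(H.comap (QuotientGroup.mk' N)) = Nat.card ↥H * Nat.card ↥N := by
  have hsurj : Function.Surjective (QuotientGroup.mk' N) := QuotientGroup.mk'_surjective N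
  have hidx : (H.comap (QuotientGroup.mk' N)).index = H.index :=
    Subgroup.index_comap_of_surjective H hsurj
  have h1 : Nat.card ↥(H.comap (QuotientGroup.mk' N)) * H.index = Nat.card G := by
    rw [← hidx]; exact Subgroup.card_mul_index _
  have h2 : Nat.card ↥H * H.index = Nat.card (G ⧸ N) := Subgroup.card_mul_index H
  have h3 : Nat.card G = Nat.card (G ⧸ N) * Nat.card ↥N :=
    Subgroup.card_eq_card_quotient_mul_card_subgroup N
  have hpos : 0 < H.index := Nat.pos_of_ne_zero (Subgroup.index_ne_zero_of_finite)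
  have h4 : Nat.card ↥(H.comap (QuotientGroup.mk' N)) * H.index =
      (Nat.card ↥H * Nat.card ↥N) * H.index := by
    rw [h1, h3, ← h2]; ring
  exact Nat.eq_of_mul_eq_mul_right hpos h4

/-- T74-ABBR -/
theorem exists_small_index_avoiding {T : Type*} [Group T] [Finite T] (W Z2 Z3 Y : Subgroup T)
    (h23 : Z2 ≤ Z3) (h3Y : Z3 ≤ Y) (hYW : Y ≤ W)
    (hZ2n : ∀ w ∈ W, ∀ k ∈ Z2, w * k * w⁻¹ ∈ Z2)
    (hidx : Nat.card ↥Z3 = 2 * Nat.card ↥Z2)
    (hsq : ∀ w ∈ W, w ^ 2 ∈ Z3) (hcen : ∀ z ∈ Z3, ∀ w ∈ W, z * w = w * z)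
    (hY : ∀ y ∈ Y, ∀ w ∈ W, ⁅w, y⁆ ∈ Z2)
    (hcW : Nat.card ↥W = 2 ^ 9 * Nat.card ↥Z2) (hcY : 2 ^ 5 * Nat.card ↥Z2 ≤ Nat.card ↥Y) :
    ∃ U : Subgroup T, U ≤ W ∧ ¬ Z3 ≤ U ∧ Nat.card ↥W ≤ 16 * Nat.card ↥U := by
  classical
  have h3W : Z3 ≤ W := h3Y.trans hYW
  have h2W : Z2 ≤ W := h23.trans h3W
  have hZ2pos : 0 < Nat.card ↥Z2 := Nat.card_pos
  -- the normal subgroup N of ↥W
  set N : Subgroup ↥W := Z2.subgroupOf W with hN
  have hNn : N.Normal := by
    constructor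
    intro n hn g
    rw [hN, Subgroup.mem_subgroupOf] at hn ⊢
    have := hZ2n g.1 g.2 n.1 hn
    simpa using this
  have hcardN : Nat.card ↥N = Nat.card ↥Z2 :=
    Nat.card_congr (Subgroup.subgroupOfEquivOfLe h2W).toEquiv
  let mk : ↥W →* ↥W ⧸ N := QuotientGroup.mk' N
  have hmk_surj : Function.Surjective mk := QuotientGroup.mk'_surjective N
  have hmk_one : ∀ w : ↥W, mk w = 1 ↔ (w : T) ∈ Z2 := by
    intro w
    have : mk w = 1 ↔ w ∈ N := QuotientGroup.eq_one_iff w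
    rw [this, hN, Subgroup.mem_subgroupOf]
  have hcardA : Nat.card (↥W ⧸ N) = 2 ^ 9 := by
    have h := Subgroup.card_eq_card_quotient_mul_card_subgroup N
    rw [hcW, hcardN] at h
    exact (Nat.eq_of_mul_eq_mul_right hZ2pos h).symm
  -- Z2 has index two in Z3
  have hrel : (Z2.subgroupOf Z3).index = 2 := by
    have h1 : Nat.card ↥(Z2.subgroupOf Z3) * (Z2.subgroupOf Z3).index = Nat.card ↥Z3 :=
      Subgroup.card_mul_index _
    have h2 : Nat.card ↥(Z2.subgroupOf Z3) = Nat.card ↥Z2 :=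
      Nat.card_congr (Subgroup.subgroupOfEquivOfLe h23).toEquiv
    rw [h2, hidx, Nat.mul_comm] at h1
    exact Nat.eq_of_mul_eq_mul_right hZ2pos h1
  -- an element e of Z3 outside Z2
  have hexe : ∃ e ∈ Z3, e ∉ Z2 := by
    by_contra hcon
    push Not at hcon
    have hle : Z3 ≤ Z2 := hcon
    have := Subgroup.card_le_of_le hle
    omega
  obtain ⟨e, he3, he2⟩ := hexe
  have heW : e ∈ W := h3W he3
  have hcoset : ∀ x ∈ Z3, x ∉ Z2 → e⁻¹ * x ∈ Z2 := by
    intro x hx3 hx2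
    have h := Subgroup.mul_mem_iff_of_index_two hrel
      (a := (⟨e⁻¹, inv_mem he3⟩ : ↥Z3)) (b := (⟨x, hx3⟩ : ↥Z3))
    rw [Subgroup.mem_subgroupOf, Subgroup.mem_subgroupOf, Subgroup.mem_subgroupOf] at h
    have h1 : ¬ (e⁻¹ ∈ Z2) := fun hh => he2 (by simpa using inv_mem hh)
    exact h.2 (iff_of_false h1 hx2)
  have hsqZ : ∀ x ∈ Z3, x ^ 2 ∈ Z2 := by
    intro x hx3
    have h := Subgroup.sq_mem_of_index_two hrel (⟨x, hx3⟩ : ↥Z3)
    rw [Subgroup.mem_subgroupOf] at h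
    simpa using h
  set c : ↥W ⧸ N := mk ⟨e, heW⟩ with hc
  have hc1 : c ≠ 1 := by
    intro h
    exact he2 ((hmk_one ⟨e, heW⟩).1 h)
  have hc2 : c ^ 2 = 1 := by
    rw [hc, ← map_pow]
    exact (hmk_one _).2 (by simpa using hsqZ e he3)
  have hccen : c ∈ center (↥W ⧸ N) := by
    rw [Subgroup.mem_center_iff]
    intro g
    obtain ⟨w, rfl⟩ := hmk_surj g
    rw [hc, ← map_mul, ← map_mul]
    congr 1
    apply Subtype.ext
    simpa using (hcen e he3 w.1 w.2).symm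
  have hsqA : ∀ a : ↥W ⧸ N, a ^ 2 = 1 ∨ a ^ 2 = c := by
    intro g
    obtain ⟨w, rfl⟩ := hmk_surj g
    by_cases hw : (w : T) ^ 2 ∈ Z2
    · left
      rw [← map_pow]
      exact (hmk_one _).2 (by simpa using hw)
    · right
      have h1 := hcoset ((w : T) ^ 2) (hsq w.1 w.2) hw
      rw [← map_pow, hc]
      have h2 : mk ((⟨e, heW⟩ : ↥W)⁻¹ * w ^ 2) = 1 := (hmk_one _).2 (by simpa using h1)
      rw [map_mul, map_inv] at h2
      exact (inv_mul_eq_one.1 h2).symm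
  -- the image of Y is central and large
  set YA : Subgroup (↥W ⧸ N) := (Y.subgroupOf W).map mk with hYA
  have hYAcen : YA ≤ center (↥W ⧸ N) := by
    rintro _ ⟨y, hy, rfl⟩
    rw [Subgroup.mem_center_iff]
    intro g
    obtain ⟨w, rfl⟩ := hmk_surj g
    have hy' : (y : T) ∈ Y := Subgroup.mem_subgroupOf.1 hy
    have h1 := hY y.1 hy' w.1 w.2
    -- mk (⁅w, y⁆) = 1
    have h2 : mk ⁅w, y⁆ = 1 := (hmk_one _).2 (by simpa [commutatorElement_def] using h1)
    rw [commutatorElement_def, map_mul, map_mul, map_mul, map_inv, map_inv] at h2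
    have h3 : mk w * mk y = mk y * mk w := by
      have := h2
      calc mk w * mk y = (mk w * mk y * (mk w)⁻¹ * (mk y)⁻¹) * (mk y * mk w) := by group
        _ = mk y * mk w := by rw [this, one_mul]
    exact h3
  have hNY : N ≤ Y.subgroupOf W := by
    intro w hw
    rw [hN, Subgroup.mem_subgroupOf] at hw
    rw [Subgroup.mem_subgroupOf]
    exact h3Y (h23 hw)
  have hcomapYA : YA.comap mk = Y.subgroupOf W := by
    rw [hYA, Subgroup.comap_map_eq, QuotientGroup.ker_mk']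
    exact sup_eq_left.2 hNY
  have hcardYA : Nat.card ↥YA * Nat.card ↥Z2 = Nat.card ↥Y := by
    have h := t74_abbrb_card_comap N YA
    rw [show (YA.comap (QuotientGroup.mk' N)) = Y.subgroupOf W from hcomapYA, hcardN] at h
    rw [← h]
    exact Nat.card_congr (Subgroup.subgroupOfEquivOfLe hYW).toEquiv
  have hYA32 : 2 ^ 5 ≤ Nat.card ↥YA := by
    rw [← hcardYA] at hcY
    exact Nat.le_of_mul_le_mul_right hcY hZ2pos
  have hZ32 : 2 ^ 5 ≤ Nat.card ↥(center (↥W ⧸ N)) :=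
    le_trans hYA32 (Subgroup.card_le_of_le hYAcen)
  obtain ⟨U0, hcU0, hU0card⟩ := exists_avoiding_of_center c hc1 hc2 hccen hsqA hcardA hZ32
  set U' : Subgroup ↥W := U0.comap mk with hU'
  have hcardU' : Nat.card ↥U' = Nat.card ↥U0 * Nat.card ↥Z2 := by
    have h := t74_abbrb_card_comap N U0
    rw [hcardN] at h
    exact h
  refine ⟨U'.map W.subtype, ?_, ?_, ?_⟩
  · rintro _ ⟨w, _, rfl⟩
    exact w.2
  · intro hle
    have heU : e ∈ U'.map W.subtype := hle he3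
    obtain ⟨w, hw, hwe⟩ := heU
    apply hcU0
    have : w = ⟨e, heW⟩ := Subtype.ext hwe
    have hw' : mk w ∈ U0 := Subgroup.mem_comap.1 hw
    rw [this] at hw'
    exact hw'
  · have hcardU : Nat.card ↥(U'.map W.subtype) = Nat.card ↥U' :=
      Nat.card_congr (Subgroup.equivMapOfInjective U' W.subtype
        (Subgroup.subtype_injective W)).toEquiv.symm
    rw [hcardU, hcardU', hcW]
    have : 2 ^ 5 * Nat.card ↥Z2 ≤ Nat.card ↥U0 * Nat.card ↥Z2 :=
      Nat.mul_le_mul_right _ hU0card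
    nlinarith

end Cfsg.Agent.Helper16.T74
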