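import Mathlib
import Cfsg.Agent.Lib.Helper16.T74Defs

/-!
# S3174 piece T74-BFORM
-/

namespace Cfsg.Agent.Helper16.T74

open scoped commutatorElement
open Subgroup

theorem t74_bform_card_mul_relIndex {T : Type*} [Group T] {H K : Subgroup T} (hHK : H ≤ K) :
    Nat.card H * H.relIndex K = Nat.card K := by
  have := Subgroup.relIndex_mul_relIndex ⊥ H K bot_le hHK
  rwa [Subgroup.relIndex_bot_left, Subgroup.relIndex_bot_left] at this

/-- `Z2` has index 2 in `Z3` -/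
theorem t74_bform_mul_mem_iff {T : Type*} [Group T] [Finite T] {W Z1 Z2 Z3 : Subgroup T}
    (S : Setting W Z1 Z2 Z3) (x y : T) (hx : x ∈ Z3) (hy : y ∈ Z3) :
    x * y ∈ Z2 ↔ (x ∈ Z2 ↔ y ∈ Z2) := by
  have hidx : (Z2.subgroupOf Z3).index = 2 := by
    have h1 := t74_bform_card_mul_relIndex S.h23
    rw [S.c2, S.c3] at h1
    show Z2.relIndex Z3 = 2
    omega
  have h := Subgroup.mul_mem_iff_of_index_two hidx (a := (⟨x, hx⟩ : ↥Z3)) (b := (⟨y, hy⟩ : ↥Z3))
  rw [Subgroup.mem_subgroupOf, Subgroup.mem_subgroupOf, Subgroup.mem_subgroupOf] at h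
  exact h

/-- the indicator of `Z3 \ Z2` is additive on `Z3` -/
theorem t74_bform_ind_add {T : Type*} [Group T] [Finite T] {W Z1 Z2 Z3 : Subgroup T}
    (S : Setting W Z1 Z2 Z3) (x y : T) (hx : x ∈ Z3) (hy : y ∈ Z3) :
    (open Classical in if x * y ∈ Z2 then (0 : ZMod 2) else 1) =
      (open Classical in if x ∈ Z2 then (0 : ZMod 2) else 1) +
        (open Classical in if y ∈ Z2 then (0 : ZMod 2) else 1) := by
  have h := t74_bform_mul_mem_iff S x y hx hy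
  by_cases h1 : x ∈ Z2 <;> by_cases h2 : y ∈ Z2
  · rw [if_pos h1, if_pos h2, if_pos (h.2 (iff_of_true h1 h2))]; rfl
  · rw [if_pos h1, if_neg h2, if_neg (fun h3 => h2 ((h.1 h3).1 h1))]; rfl
  · rw [if_neg h1, if_pos h2, if_neg (fun h3 => h1 ((h.1 h3).2 h2))]; rfl
  · rw [if_neg h1, if_neg h2, if_pos (h.2 (iff_of_false h1 h2))]; rfl

theorem t74_bform_commute {T : Type*} [Group T] {W Z1 Z2 Z3 : Subgroup T}
    (S : Setting W Z1 Z2 Z3) (w z : T) (hw : w ∈ W) (hz : z ∈ Z3) : z * w = w * z := by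
  have h1 : w ∈ Subgroup.centralizer (Z3 : Set T) := by rw [← S.hWc]; exact hw
  rw [Subgroup.mem_centralizer_iff] at h1
  exact h1 z hz

/-- T74-BFORM -/
theorem bform_props {T : Type*} [Group T] [Finite T] {W Z1 Z2 Z3 : Subgroup T}
    (S : Setting W Z1 Z2 Z3) :
    (∀ u ∈ W, ∀ v ∈ W, ∀ v' ∈ W, bform Z2 u (v * v') = bform Z2 u v + bform Z2 u v') ∧
      (∀ u ∈ W, ∀ v ∈ W, bform Z2 u v = bform Z2 v u) ∧
      (∀ u ∈ W, ∀ k ∈ Z3, bform Z2 u k = 0) ∧
      (∀ u ∈ W, bform Z2 u u = 0) ∧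
      (∀ g u v : T, bform Z2 (g * u * g⁻¹) (g * v * g⁻¹) = bform Z2 u v) ∧
      (∀ u ∈ W, ∀ v ∈ W, bform Z2 u v⁻¹ = bform Z2 u v) := by
  have hadd : ∀ u ∈ W, ∀ v ∈ W, ∀ v' ∈ W,
      bform Z2 u (v * v') = bform Z2 u v + bform Z2 u v' := by
    intro u hu v hv v' hv'
    have h1 : ⁅u, v * v'⁆ = ⁅u, v⁆ * ⁅u, v'⁆ := by
      have h2 : ⁅u, v * v'⁆ = ⁅u, v⁆ * (v * ⁅u, v'⁆ * v⁻¹) := by
        rw [commutatorElement_def, commutatorElement_def, commutatorElement_def]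
        group
      have h3 : v * ⁅u, v'⁆ * v⁻¹ = ⁅u, v'⁆ := by
        rw [← t74_bform_commute S v _ hv (S.comm u hu v' hv'), mul_inv_cancel_right]
      rw [h2, h3]
    unfold bform
    rw [h1]
    exact t74_bform_ind_add S _ _ (S.comm u hu v hv) (S.comm u hu v' hv')
  have hone : ∀ u : T, bform Z2 u 1 = 0 := by
    intro u
    rw [bform_eq_zero_iff, commutatorElement_def]
    have : u * 1 * u⁻¹ * 1⁻¹ = 1 := by group
    rw [this]
    exact Subgroup.one_mem _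
  refine ⟨hadd, ?_, ?_, ?_, ?_, ?_⟩
  · intro u hu v hv
    have h1 : ⁅v, u⁆ = ⁅u, v⁆⁻¹ := (commutatorElement_inv u v).symm
    unfold bform
    rw [h1]
    by_cases h : ⁅u, v⁆ ∈ Z2
    · rw [if_pos h, if_pos (Subgroup.inv_mem _ h)]
    · rw [if_neg h, if_neg (fun h' => h ((Subgroup.inv_mem_iff _).1 h'))]
  · intro u hu k hk
    rw [bform_eq_zero_iff, commutatorElement_def]
    have h1 : k * u = u * k := t74_bform_commute S u k hu hk
    have : u * k * u⁻¹ * k⁻¹ = 1 := by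
      rw [← h1]
      group
    rw [this]
    exact Subgroup.one_mem _
  · intro u hu
    rw [bform_eq_zero_iff, commutatorElement_def]
    have : u * u * u⁻¹ * u⁻¹ = 1 := by group
    rw [this]
    exact Subgroup.one_mem _
  · intro g u v
    have h1 : ⁅g * u * g⁻¹, g * v * g⁻¹⁆ = g * ⁅u, v⁆ * g⁻¹ := by
      rw [commutatorElement_def, commutatorElement_def]
      group
    have hn := S.n2
    unfold bform
    rw [h1]
    by_cases h : ⁅u, v⁆ ∈ Z2
    · rw [if_pos h, if_pos (hn.conj_mem _ h g)]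
    · rw [if_neg h, if_neg]
      intro h'
      apply h
      have := hn.conj_mem _ h' g⁻¹
      have e : g⁻¹ * (g * ⁅u, v⁆ * g⁻¹) * g⁻¹⁻¹ = ⁅u, v⁆ := by group
      rwa [e] at this
  · intro u hu v hv
    have h1 := hadd u hu v hv v⁻¹ (Subgroup.inv_mem _ hv)
    rw [mul_inv_cancel, hone] at h1
    -- in `ZMod 2`, `0 = a + b` gives `b = a`
    have h2 : ∀ a b : ZMod 2, 0 = a + b → b = a := by decide
    exact h2 _ _ h1

end Cfsg.Agent.Helper16.T74
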