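import Mathlib
import Cfsg.Agent.Lib.Helper16.T74Defs

/-!
# S3174 piece T74-BRCEN: `CenT W = Z(W)` as a subgroup of `T`: normal, membership, order
-/

namespace Cfsg.Agent.Helper16.T74

open scoped commutatorElement
open Subgroup

theorem t74_brcen_mem {T : Type*} [Group T] (W : Subgroup T) (x : T) :
    x ∈ CenT W ↔ x ∈ W ∧ ∀ w ∈ W, x * w = w * x := by
  unfold CenT
  rw [Subgroup.mem_map]
  constructor
  · rintro ⟨y, hy, rfl⟩
    refine ⟨y.2, fun w hw => ?_⟩
    have h := (Subgroup.mem_center_iff.1 hy) ⟨w, hw⟩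
    have h' := congrArg Subtype.val h
    simpa using h'.symm
  · rintro ⟨hxW, hx⟩
    refine ⟨⟨x, hxW⟩, ?_, rfl⟩
    rw [Subgroup.mem_center_iff]
    intro g
    apply Subtype.ext
    simpa using (hx g.1 g.2).symm

/-- T74-BRCEN -/
theorem cenT_facts {T : Type*} [Group T] [Finite T] (W : Subgroup T) [W.Normal] :
    (CenT W).Normal ∧ (∀ x : T, x ∈ CenT W ↔ x ∈ W ∧ ∀ w ∈ W, x * w = w * x) ∧
      Nat.card ↥(CenT W) = Nat.card ↥(center ↥W) := by
  have hW : W.Normal := inferInstance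
  refine ⟨⟨?_⟩, t74_brcen_mem W, ?_⟩
  · intro x hx g
    rw [t74_brcen_mem] at hx ⊢
    obtain ⟨hxW, hxc⟩ := hx
    refine ⟨hW.conj_mem x hxW g, fun w hw => ?_⟩
    have hw' : g⁻¹ * w * g ∈ W := by
      have := hW.conj_mem w hw g⁻¹
      rwa [inv_inv] at this
    have h := hxc _ hw'
    calc g * x * g⁻¹ * w = g * (x * (g⁻¹ * w * g)) * g⁻¹ := by group
      _ = g * ((g⁻¹ * w * g) * x) * g⁻¹ := by rw [h]
      _ = w * (g * x * g⁻¹) := by group
  · unfold CenT
    exact Subgroup.card_map_of_injective (Subgroup.subtype_injective W)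

end Cfsg.Agent.Helper16.T74
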