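import Mathlib
import Cfsg.Agent.Lib.Helper16.T74Defs

/-!
# S3174 piece T74-BRD: hypothesis (d) transferred to subgroups of `T`
-/

namespace Cfsg.Agent.Helper16.T74

open scoped commutatorElement
open Subgroup

/-- T74-BRD -/
theorem hd_transfer {T : Type*} [Group T] [Finite T] (W : Subgroup T)
    (hd : ∀ U : Subgroup ↥W, U.index ≤ 16 → frattini ↥W ≤ U) :
    ∀ U : Subgroup T, U ≤ W → Nat.card ↥W ≤ 16 * Nat.card ↥U → PhiT W ≤ U := by
  intro U hUW hcard
  have h1 : Nat.card ↥(U.subgroupOf W) * (U.subgroupOf W).index = Nat.card ↥W :=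
    Subgroup.card_mul_index _
  have h2 : Nat.card ↥(U.subgroupOf W) = Nat.card ↥U :=
    Nat.card_congr (Subgroup.subgroupOfEquivOfLe hUW).toEquiv
  have hpos : 0 < Nat.card ↥U := Nat.card_pos
  have hidx : (U.subgroupOf W).index ≤ 16 := by
    rw [h2] at h1
    rw [← h1, mul_comm] at hcard
    exact Nat.le_of_mul_le_mul_right hcard hpos
  have h3 : frattini ↥W ≤ U.subgroupOf W := hd _ hidx
  calc PhiT W = (frattini ↥W).map W.subtype := rfl
    _ ≤ (U.subgroupOf W).map W.subtype := Subgroup.map_mono h3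
    _ = U := Subgroup.map_subgroupOf_eq_of_le hUW

end Cfsg.Agent.Helper16.T74
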