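import Mathlib
import Cfsg.Agent.Lib.Helper16.T74Defs

/-!
# S3174 piece T74-FRAT: in a finite `2`-group, squares and commutators lie in the Frattini subgroup.
-/

namespace Cfsg.Agent.Helper16.T74

open scoped commutatorElement
open Subgroup

/-- a maximal subgroup of a finite `2`-group contains all squares and all commutators -/
theorem t74_frat_coatom {G : Type*} [Group G] [Finite G] (hG : IsPGroup 2 G) (M : Subgroup G)
    (hM : IsCoatom M) : (∀ x : G, x ^ 2 ∈ M) ∧ ∀ a b : G, ⁅a, b⁆ ∈ M := by
  haveI : Fact (Nat.Prime 2) := ⟨Nat.prime_two⟩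
  haveI hnil : Group.IsNilpotent G := hG.isNilpotent
  haveI hMn : M.Normal :=
    Subgroup.NormalizerCondition.normal_of_coatom M Group.normalizerCondition_of_isNilpotent hM
  have hq : IsPGroup 2 (G ⧸ M) := hG.to_quotient M
  have hnt : Nontrivial (G ⧸ M) := QuotientGroup.nontrivial_iff.2 hM.1
  have h2 : 2 ∣ Nat.card (G ⧸ M) := by
    obtain ⟨n, hn0, hn⟩ := hq.nontrivial_iff_card.mp hnt
    rw [hn]
    exact dvd_pow_self 2 hn0.ne'
  obtain ⟨y, hy⟩ := exists_prime_orderOf_dvd_card' 2 h2
  have hsurj : Function.Surjective (QuotientGroup.mk' M) := QuotientGroup.mk'_surjective M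
  -- the subgroup generated by `y` is everything
  have htop : Subgroup.zpowers y = ⊤ := by
    have hle : M ≤ (Subgroup.zpowers y).comap (QuotientGroup.mk' M) := by
      intro x hx
      rw [Subgroup.mem_comap]
      have : QuotientGroup.mk' M x = 1 := (QuotientGroup.eq_one_iff x).2 hx
      rw [this]
      exact Subgroup.one_mem _
    rcases eq_or_lt_of_le hle with h1 | h1
    · exfalso
      have h3 : (Subgroup.zpowers y).comap (QuotientGroup.mk' M) =
          (⊥ : Subgroup (G ⧸ M)).comap (QuotientGroup.mk' M) := by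
        rw [← h1, MonoidHom.comap_bot, QuotientGroup.ker_mk']
      have h4 := Subgroup.comap_injective hsurj h3
      have h5 : y ∈ (⊥ : Subgroup (G ⧸ M)) := h4 ▸ Subgroup.mem_zpowers y
      rw [Subgroup.mem_bot] at h5
      rw [h5, orderOf_one] at hy
      exact absurd hy (by norm_num)
    · have h3 := hM.2 _ h1
      rw [← Subgroup.map_comap_eq_self_of_surjective hsurj (Subgroup.zpowers y), h3,
        ← MonoidHom.range_eq_map, MonoidHom.range_eq_top]
      exact hsurj
  have hsq : ∀ z : G ⧸ M, z ^ 2 = 1 := by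
    intro z
    have hz : z ∈ Subgroup.zpowers y := by rw [htop]; exact Subgroup.mem_top z
    obtain ⟨k, rfl⟩ := Subgroup.mem_zpowers_iff.1 hz
    rw [← zpow_natCast, ← zpow_mul, mul_comm, zpow_mul, zpow_natCast, ← hy, pow_orderOf_eq_one,
      one_zpow]
  have hcomm : ∀ z w : G ⧸ M, z * w = w * z := by
    intro z w
    have hz : z ∈ Subgroup.zpowers y := by rw [htop]; exact Subgroup.mem_top z
    have hw : w ∈ Subgroup.zpowers y := by rw [htop]; exact Subgroup.mem_top w
    obtain ⟨k, rfl⟩ := Subgroup.mem_zpowers_iff.1 hz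
    obtain ⟨l, rfl⟩ := Subgroup.mem_zpowers_iff.1 hw
    rw [← zpow_add, ← zpow_add, add_comm]
  constructor
  · intro x
    rw [← QuotientGroup.eq_one_iff, QuotientGroup.mk_pow]
    exact hsq _
  · intro a b
    rw [← QuotientGroup.eq_one_iff, commutatorElement_def, QuotientGroup.mk_mul,
      QuotientGroup.mk_mul, QuotientGroup.mk_mul, QuotientGroup.mk_inv, QuotientGroup.mk_inv,
      hcomm (a : G ⧸ M) (b : G ⧸ M)]
    group

/-- T74-FRAT -/
theorem frattini_two_group {G : Type*} [Group G] [Finite G] (hG : IsPGroup 2 G) :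
    (∀ x : G, x ^ 2 ∈ frattini G) ∧ commutator G ≤ frattini G := by
  have hmem : ∀ x : G, (∀ M : Subgroup G, IsCoatom M → x ∈ M) → x ∈ frattini G := by
    intro x hx
    unfold frattini Order.radical
    rw [Subgroup.mem_iInf]
    intro M
    rw [Subgroup.mem_iInf]
    intro hM
    exact hx M hM
  constructor
  · intro x
    exact hmem _ fun M hM => (t74_frat_coatom hG M hM).1 x
  · rw [commutator_def, Subgroup.commutator_le]
    intro a _ b _
    exact hmem _ fun M hM => (t74_frat_coatom hG M hM).2 a b

end Cfsg.Agent.Helper16.T74
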