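import Mathlib
import Cfsg.Agent.Lib.Helper16.T74Defs
import Cfsg.Agent.Lib.T74.T74FRAT

/-!
# S3174 piece T74-BRPHI: `PhiT W = Φ(W)` as a subgroup of `T`: normal, inside `W`, contains the squares
and the commutators of `W`, order
-/

namespace Cfsg.Agent.Helper16.T74

open scoped commutatorElement
open Subgroup

/-- T74-BRPHI -/
theorem phiT_facts {T : Type*} [Group T] [Finite T] (hT : IsPGroup 2 T) (W : Subgroup T)
    [W.Normal] :
    (PhiT W).Normal ∧ PhiT W ≤ W ∧ (∀ w ∈ W, w ^ 2 ∈ PhiT W) ∧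
      (∀ u ∈ W, ∀ v ∈ W, ⁅u, v⁆ ∈ PhiT W) ∧
      Nat.card ↥(PhiT W) = Nat.card ↥(frattini ↥W) := by
  have hW2 : IsPGroup 2 ↥W := hT.to_subgroup W
  obtain ⟨hsq, hcomm⟩ := frattini_two_group hW2
  refine ⟨?_, ?_, ?_, ?_, ?_⟩
  · unfold PhiT
    haveI : (frattini ↥W).Characteristic := frattini_characteristic
    exact ConjAct.normal_of_characteristic_of_normal
  · unfold PhiT
    exact Subgroup.map_subtype_le _
  · intro w hw
    unfold PhiT
    rw [Subgroup.mem_map]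
    exact ⟨⟨w, hw⟩ ^ 2, hsq ⟨w, hw⟩, by simp⟩
  · intro u hu v hv
    unfold PhiT
    rw [Subgroup.mem_map]
    refine ⟨⁅(⟨u, hu⟩ : ↥W), ⟨v, hv⟩⁆, hcomm ?_, by simp [commutatorElement_def]⟩
    exact Subgroup.commutator_mem_commutator (Subgroup.mem_top _) (Subgroup.mem_top _)
  · unfold PhiT
    exact Subgroup.card_map_of_injective (Subgroup.subtype_injective W)

end Cfsg.Agent.Helper16.T74
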