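import Mathlib
import Cfsg.Agent.Lib.Helper16.T74Defs
import Cfsg.Agent.Lib.Helper19.PGroupBasic
import Cfsg.Agent.Lib.T74.T74BRCEN

/-!
# S3174 piece T74-CEN8A (helper7 for helper16): a `T`-invariant element of `Z(W) \ Z₃`
-/

namespace Cfsg.Agent.Helper16.T74

open scoped commutatorElement
open Subgroup

/-- T74-CEN8A -/
theorem exists_central_invariant {T : Type*} [Group T] [Finite T] (hT : IsPGroup 2 T)
    {W Z1 Z2 Z3 : Subgroup T} (S : Setting W Z1 Z2 Z3) (hne : CenT W ≠ Z3) :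
    ∃ x ∈ W, x ∉ Z3 ∧ (∀ g : T, ⁅g, x⁆ ∈ Z3) ∧ (∀ w ∈ W, x * w = w * x) := by
  have hnW : W.Normal := S.nW
  have hn3 : Z3.Normal := S.n3
  obtain ⟨hNn, hmem, -⟩ := cenT_facts W
  -- `Z3 ≤ CenT W`
  have hle : Z3 ≤ CenT W := by
    intro z hz
    rw [hmem]
    refine ⟨S.h3W hz, fun w hw => ?_⟩
    have hw' : w ∈ Subgroup.centralizer (Z3 : Set T) := by
      rw [← S.hWc]; exact hw
    exact (Subgroup.mem_centralizer_iff.1 hw' z hz)
  -- the image of `CenT W` in `T ⧸ Z3` is nontrivial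
  have hfact : Fact (Nat.Prime 2) := ⟨Nat.prime_two⟩
  have hQ : IsPGroup 2 (T ⧸ Z3) := hT.to_quotient Z3
  have hNbar : ((CenT W).map (QuotientGroup.mk' Z3)).Normal :=
    hNn.map (QuotientGroup.mk' Z3) (QuotientGroup.mk'_surjective Z3)
  have hNbar_ne : (CenT W).map (QuotientGroup.mk' Z3) ≠ ⊥ := by
    intro h
    apply hne
    apply le_antisymm _ hle
    intro x hx
    have h1 : QuotientGroup.mk' Z3 x ∈ (CenT W).map (QuotientGroup.mk' Z3) :=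
      Subgroup.mem_map_of_mem _ hx
    rw [h, Subgroup.mem_bot] at h1
    exact (QuotientGroup.eq_one_iff x).1 h1
  have hmeet := Cfsg.Agent.Helper19.normal_inf_center_ne_bot hQ
    ((CenT W).map (QuotientGroup.mk' Z3)) hNbar_ne
  obtain ⟨y, hy, hy1⟩ := (Subgroup.ne_bot_iff_exists_ne_one).1 hmeet |>.imp (fun y h => h) |> fun
    ⟨y, h⟩ => (⟨y.1, y.2, fun h1 => h (Subtype.ext h1)⟩ :
      ∃ y : T ⧸ Z3, y ∈ (CenT W).map (QuotientGroup.mk' Z3) ⊓ Subgroup.center (T ⧸ Z3) ∧ y ≠ 1)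
  obtain ⟨hyN, hyc⟩ := Subgroup.mem_inf.1 hy
  obtain ⟨x, hxN, rfl⟩ := Subgroup.mem_map.1 hyN
  have hxW := (hmem x).1 hxN
  refine ⟨x, hxW.1, ?_, ?_, hxW.2⟩
  · intro hx3
    exact hy1 ((QuotientGroup.eq_one_iff x).2 hx3)
  · intro g
    rw [← QuotientGroup.eq_one_iff, commutatorElement_def]
    have hc := (Subgroup.mem_center_iff.1 hyc) (QuotientGroup.mk' Z3 g)
    have : ((g * x * g⁻¹ * x⁻¹ : T) : T ⧸ Z3) =
        (QuotientGroup.mk' Z3 g) * (QuotientGroup.mk' Z3 x) * (QuotientGroup.mk' Z3 g)⁻¹ *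
          (QuotientGroup.mk' Z3 x)⁻¹ := by
      simp
    rw [this, hc]
    group
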