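import Mathlib
import Cfsg.Agent.Lib.Helper16.T74Defs

/-!
# S3174 farm-out (helper16), piece T74-CIDX: `[T : C_T(Z_3)] ≤ 8`.
-/

namespace Cfsg.Agent.Helper16.T74

open scoped commutatorElement
open Subgroup

/-- the index of the centralizer of `z ∈ Z_{i+1}` is at most `|Z_i|`. -/
theorem t74_cidx_index_le {T : Type*} [Group T] [Finite T] (i : ℕ) (z : T)
    (hz : z ∈ Subgroup.upperCentralSeries T (i + 1)) :
    (centralizer ({z} : Set T)).index ≤ Nat.card ↥(Subgroup.upperCentralSeries T i) := by
  rw [Subgroup.mem_upperCentralSeries_succ_iff] at hz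
  -- the map `g ↦ ⁅g, z⁆`-like on left cosets
  let f : T ⧸ centralizer ({z} : Set T) → ↥(Subgroup.upperCentralSeries T i) :=
    Quotient.lift (fun g : T => (⟨g * z * g⁻¹ * z⁻¹, by
      have h1 := (Subgroup.upperCentralSeries T i).inv_mem (hz g)
      rw [commutatorElement_inv, commutatorElement_def] at h1
      exact h1⟩ : ↥(Subgroup.upperCentralSeries T i))) (by
      intro a b hab
      have hab' : a⁻¹ * b ∈ centralizer ({z} : Set T) := QuotientGroup.leftRel_apply.mp hab
      rw [Subgroup.mem_centralizer_iff] at hab'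
      have h1 := hab' z (Set.mem_singleton z)
      apply Subtype.ext
      show a * z * a⁻¹ * z⁻¹ = b * z * b⁻¹ * z⁻¹
      have h2 : a * z * a⁻¹ = b * z * b⁻¹ := by
        have : z * (a⁻¹ * b) = a⁻¹ * b * z := h1
        calc a * z * a⁻¹ = a * (z * (a⁻¹ * b)) * b⁻¹ := by group
          _ = a * (a⁻¹ * b * z) * b⁻¹ := by rw [this]
          _ = b * z * b⁻¹ := by group
      rw [h2])
  have hf : Function.Injective f := by
    intro x y hxy
    induction x using Quotient.inductionOn with
    | h a =>
      induction y using Quotient.inductionOn with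
      | h b =>
        apply Quotient.sound
        show QuotientGroup.leftRel _ a b
        rw [QuotientGroup.leftRel_apply, Subgroup.mem_centralizer_iff]
        intro w hw
        rw [Set.mem_singleton_iff] at hw
        subst hw
        have h1 : a * w * a⁻¹ * w⁻¹ = b * w * b⁻¹ * w⁻¹ := congrArg Subtype.val hxy
        have h2 : a * w * a⁻¹ = b * w * b⁻¹ := mul_right_cancel h1
        calc w * (a⁻¹ * b) = a⁻¹ * (a * w * a⁻¹) * b := by group
          _ = a⁻¹ * (b * w * b⁻¹) * b := by rw [h2]
          _ = a⁻¹ * b * w := by group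
  exact Nat.card_le_card_of_injective f hf

/-- a subgroup of prime-like index: if `A ≤ B`, `|B| = 2 |A|`, `K ≤ B` contains `A` and an element outside `A`,
then `K = B`. -/
theorem t74_cidx_eq_of_card {T : Type*} [Group T] [Finite T] (A B K : Subgroup T) (hAK : A ≤ K)
    (hKB : K ≤ B) (hcard : Nat.card ↥B = 2 * Nat.card ↥A) (z : T) (hzK : z ∈ K) (hzA : z ∉ A) :
    K = B := by
  apply Subgroup.eq_of_le_of_card_ge hKB
  have hlt : A < K := lt_of_le_of_ne hAK (fun h => hzA (h ▸ hzK))
  have h1 : Nat.card ↥A < Nat.card ↥K := by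
    by_contra hge
    have hge' : Nat.card ↥K ≤ Nat.card ↥A := by omega
    exact hlt.ne (Subgroup.eq_of_le_of_card_ge hAK hge')
  have h2 : Nat.card ↥A ∣ Nat.card ↥K := Subgroup.card_dvd_of_le hAK
  have h3 : Nat.card ↥K ∣ Nat.card ↥B := Subgroup.card_dvd_of_le hKB
  obtain ⟨m, hm⟩ := h2
  have hApos : 0 < Nat.card ↥A := Nat.card_pos
  have hm2 : 2 ≤ m := by
    by_contra hlt2
    have : m ≤ 1 := by omega
    have : Nat.card ↥K ≤ Nat.card ↥A := by
      rw [hm]
      calc Nat.card ↥A * m ≤ Nat.card ↥A * 1 := Nat.mul_le_mul_left _ this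
        _ = Nat.card ↥A := mul_one _
    omega
  rw [hcard, hm]
  calc 2 * Nat.card ↥A = Nat.card ↥A * 2 := mul_comm _ _
    _ ≤ Nat.card ↥A * m := Nat.mul_le_mul_left _ hm2

/-- T74-CIDX -/
theorem index_centralizer_ucs3_le {T : Type*} [Group T] [Finite T]
    (h1 : Nat.card ↥(Subgroup.upperCentralSeries T 1) = 2) (h2 : Nat.card ↥(Subgroup.upperCentralSeries T 2) = 4)
    (h3 : Nat.card ↥(Subgroup.upperCentralSeries T 3) = 8) :
    (centralizer ((Subgroup.upperCentralSeries T 3 : Subgroup T) : Set T)).index ≤ 8 := by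
  have h12 : Subgroup.upperCentralSeries T 1 ≤ Subgroup.upperCentralSeries T 2 :=
    Subgroup.upperCentralSeries_mono T (by norm_num)
  have h23 : Subgroup.upperCentralSeries T 2 ≤ Subgroup.upperCentralSeries T 3 :=
    Subgroup.upperCentralSeries_mono T (by norm_num)
  have hne12 : Subgroup.upperCentralSeries T 1 ≠ Subgroup.upperCentralSeries T 2 := by
    intro h; rw [h] at h1; omega
  have hne23 : Subgroup.upperCentralSeries T 2 ≠ Subgroup.upperCentralSeries T 3 := by
    intro h; rw [h] at h2; omega
  obtain ⟨z2, hz2, hz2'⟩ := SetLike.exists_of_lt (lt_of_le_of_ne h12 hne12)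
  obtain ⟨z3, hz3, hz3'⟩ := SetLike.exists_of_lt (lt_of_le_of_ne h23 hne23)
  -- the two index bounds
  have hi2 := t74_cidx_index_le 1 z2 hz2
  have hi3 := t74_cidx_index_le 2 z3 hz3
  rw [h1] at hi2
  rw [h2] at hi3
  -- the intersection of the two centralizers centralizes `Z_3`
  have hle : centralizer ({z2} : Set T) ⊓ centralizer ({z3} : Set T) ≤
      centralizer ((Subgroup.upperCentralSeries T 3 : Subgroup T) : Set T) := by
    intro g hg
    rw [Subgroup.mem_inf] at hg
    have hg2 : z2 * g = g * z2 := (Subgroup.mem_centralizer_iff.1 hg.1) z2 (Set.mem_singleton _)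
    have hg3 : z3 * g = g * z3 := (Subgroup.mem_centralizer_iff.1 hg.2) z3 (Set.mem_singleton _)
    -- `Z_1` is the center
    have hcen : Subgroup.upperCentralSeries T 1 ≤ centralizer ({g} : Set T) := by
      rw [Subgroup.upperCentralSeries_one]
      intro c hc
      rw [Subgroup.mem_centralizer_iff]
      intro w hw
      rw [Set.mem_singleton_iff] at hw
      subst hw
      exact (Subgroup.mem_center_iff.1 hc w)
    have hz2g : z2 ∈ centralizer ({g} : Set T) := by
      rw [Subgroup.mem_centralizer_iff]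
      intro w hw
      rw [Set.mem_singleton_iff] at hw
      subst hw
      exact hg2.symm
    have hz3g : z3 ∈ centralizer ({g} : Set T) := by
      rw [Subgroup.mem_centralizer_iff]
      intro w hw
      rw [Set.mem_singleton_iff] at hw
      subst hw
      exact hg3.symm
    have hK2 : Subgroup.upperCentralSeries T 2 ⊓ centralizer ({g} : Set T) =
        Subgroup.upperCentralSeries T 2 :=
      t74_cidx_eq_of_card (Subgroup.upperCentralSeries T 1) (Subgroup.upperCentralSeries T 2) _
        (le_inf h12 hcen) inf_le_left (by rw [h1, h2]) z2 ⟨hz2, hz2g⟩ hz2'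
    have hZ2g : Subgroup.upperCentralSeries T 2 ≤ centralizer ({g} : Set T) := by
      rw [← hK2]; exact inf_le_right
    have hK3 : Subgroup.upperCentralSeries T 3 ⊓ centralizer ({g} : Set T) =
        Subgroup.upperCentralSeries T 3 :=
      t74_cidx_eq_of_card (Subgroup.upperCentralSeries T 2) (Subgroup.upperCentralSeries T 3) _
        (le_inf h23 hZ2g) inf_le_left (by rw [h2, h3]) z3 ⟨hz3, hz3g⟩ hz3'
    have hZ3g : Subgroup.upperCentralSeries T 3 ≤ centralizer ({g} : Set T) := by
      rw [← hK3]; exact inf_le_right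
    rw [Subgroup.mem_centralizer_iff]
    intro w hw
    have := (Subgroup.mem_centralizer_iff.1 (hZ3g hw)) g (Set.mem_singleton g)
    exact this.symm
  have hdvd := Subgroup.index_dvd_of_le hle
  have hpos : (centralizer ({z2} : Set T) ⊓ centralizer ({z3} : Set T)).index ≠ 0 :=
    Subgroup.index_ne_zero_of_finite
  have h4 := Nat.le_of_dvd (Nat.pos_of_ne_zero hpos) hdvd
  have h5 := Subgroup.index_inf_le (H := centralizer ({z2} : Set T)) (K := centralizer ({z3} : Set T))
  calc (centralizer ((Subgroup.upperCentralSeries T 3 : Subgroup T) : Set T)).index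
      ≤ (centralizer ({z2} : Set T) ⊓ centralizer ({z3} : Set T)).index := h4
    _ ≤ (centralizer ({z2} : Set T)).index * (centralizer ({z3} : Set T)).index := h5
    _ ≤ 2 * 4 := Nat.mul_le_mul hi2 hi3
    _ = 8 := by norm_num

end Cfsg.Agent.Helper16.T74
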