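import Mathlib
import Cfsg.Agent.Lib.Helper16.T74Defs

/-!
# T74-CORE (helper22): the finite statement `h2_core` on functions `H2 → ZMod 2`
-/

namespace Cfsg.Agent.Helper16.T74

open scoped commutatorElement
open Subgroup

/-- `H2` as a triple product. -/
def t74_core_equiv : H2 ≃ ZMod 2 × ZMod 2 × ZMod 2 where
  toFun h := (h.a, h.b, h.c)
  invFun p := ⟨p.1, p.2.1, p.2.2⟩
  left_inv h := by cases h; rfl
  right_inv p := by rcases p with ⟨a, b, c⟩; rfl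

theorem t74_core_sum_zmod2 (f : ZMod 2 → ZMod 2) : ∑ x : ZMod 2, f x = f 0 + f 1 := by
  exact Fin.sum_univ_two (M := ZMod 2) (fun i : Fin 2 => f i)

theorem t74_core_sum (μ : H2 → ZMod 2) :
    ∑ h : H2, μ h =
      μ ⟨0, 0, 0⟩ + μ ⟨0, 0, 1⟩ + (μ ⟨0, 1, 0⟩ + μ ⟨0, 1, 1⟩) +
        (μ ⟨1, 0, 0⟩ + μ ⟨1, 0, 1⟩ + (μ ⟨1, 1, 0⟩ + μ ⟨1, 1, 1⟩)) := by
  rw [← Fintype.sum_equiv t74_core_equiv.symm (fun p => μ (t74_core_equiv.symm p)) μ
    (fun _ => rfl)]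
  rw [Fintype.sum_prod_type]
  simp only [Fintype.sum_prod_type, t74_core_sum_zmod2]
  rfl

theorem t74_core_zmod2_cases (x : ZMod 2) : x = 0 ∨ x = 1 := by
  revert x; decide

theorem t74_core_add_self (x : ZMod 2) : x + x = 0 := by
  revert x; decide

theorem t74_core_eq_of_add (x y : ZMod 2) (h : x + y = 0) : x = y := by
  revert x y; decide

theorem h2_core (μ : H2 → ZMod 2) (hinv : ∀ h : H2, μ h⁻¹ = μ h)
    (hK : ∀ h : H2, h.a = 0 → μ h = 0) (hsum : ∑ h : H2, μ h = 0) :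
    ∀ h : H2, μ (h * H2.z) = μ h := by
  -- the key identity
  have h11 : μ ⟨1, 1, 1⟩ = μ ⟨1, 1, 0⟩ := by
    have := hinv ⟨1, 1, 0⟩
    have e : (⟨1, 1, 0⟩ : H2)⁻¹ = ⟨1, 1, 1⟩ := by decide
    rw [e] at this
    exact this
  have h10 : μ ⟨1, 0, 0⟩ = μ ⟨1, 0, 1⟩ := by
    rw [t74_core_sum] at hsum
    rw [hK ⟨0, 0, 0⟩ rfl, hK ⟨0, 0, 1⟩ rfl, hK ⟨0, 1, 0⟩ rfl, hK ⟨0, 1, 1⟩ rfl, h11,
      t74_core_add_self (μ ⟨1, 1, 0⟩)] at hsum
    simp only [add_zero, zero_add] at hsum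
    exact t74_core_eq_of_add _ _ hsum
  rintro ⟨a, b, c⟩
  rcases t74_core_zmod2_cases a with rfl | rfl
  · rw [hK _ (by simp [H2.z]), hK _ rfl]
  · rcases t74_core_zmod2_cases b with rfl | rfl
    · rcases t74_core_zmod2_cases c with rfl | rfl
      · have e : (⟨1, 0, 0⟩ : H2) * H2.z = ⟨1, 0, 1⟩ := by decide
        rw [e, h10]
      · have e : (⟨1, 0, 1⟩ : H2) * H2.z = ⟨1, 0, 0⟩ := by decide
        rw [e, h10]
    · rcases t74_core_zmod2_cases c with rfl | rfl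
      · have e : (⟨1, 1, 0⟩ : H2) * H2.z = ⟨1, 1, 1⟩ := by decide
        rw [e, h11]
      · have e : (⟨1, 1, 1⟩ : H2) * H2.z = ⟨1, 1, 0⟩ := by decide
        rw [e, h11]

end Cfsg.Agent.Helper16.T74
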