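import Mathlib
import Cfsg.Agent.Lib.Helper16.T74Defs

/-!
# S3174 piece T74-CYC (helper16's skeleton): `W` is generated by the conjugates of one element
and `K`, when `θ` is onto.  Typed by helper19.
-/

namespace Cfsg.Agent.Helper16.T74

open scoped commutatorElement
open Subgroup

theorem t74_cyc_neg (a : ZMod 2) : -a = a := by revert a; decide

theorem t74_cyc_add_self (a : ZMod 2) : a + a = 0 := by revert a; decide

theorem t74_cyc_theta_one {T : Type*} [Group T] (W K : Subgroup T)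
    (θ : T → (T ⧸ W → ZMod 2)) (hθ : IsTheta W K θ) : θ 1 = 0 := by
  have h := hθ.add 1 W.one_mem 1 W.one_mem
  rw [mul_one] at h
  have h2 : θ 1 + θ 1 = θ 1 + 0 := by rw [← h, add_zero]
  exact (add_left_cancel h2)

theorem t74_cyc_theta_inv {T : Type*} [Group T] (W K : Subgroup T)
    (θ : T → (T ⧸ W → ZMod 2)) (hθ : IsTheta W K θ) (u : T) (hu : u ∈ W) : θ u⁻¹ = θ u := by
  have h := hθ.add u hu u⁻¹ (W.inv_mem hu)
  rw [mul_inv_cancel, t74_cyc_theta_one W K θ hθ] at h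
  have h2 : θ u⁻¹ = -θ u := by
    rw [eq_neg_iff_add_eq_zero, add_comm]
    exact h.symm
  rw [h2]
  funext c
  rw [Pi.neg_apply, t74_cyc_neg]

/-- T74-CYC -/
theorem exists_cyclic_generator {T : Type*} [Group T] [Finite T] (W K : Subgroup T) [W.Normal]
    (hKW : K ≤ W) (θ : T → (T ⧸ W → ZMod 2)) (hθ : IsTheta W K θ)
    (hsurj : ∀ φ : T ⧸ W → ZMod 2, ∃ w ∈ W, θ w = φ) :
    ∃ w0 ∈ W, W ≤ closure ({y : T | ∃ g : T, y = g * w0 * g⁻¹} ∪ (K : Set T)) := by
  classical
  have : Fintype (T ⧸ W) := Fintype.ofFinite _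
  obtain ⟨w0, hw0, hw0θ⟩ := hsurj (Pi.single (1 : T ⧸ W) (1 : ZMod 2))
  refine ⟨w0, hw0, ?_⟩
  set H : Subgroup T := closure ({y : T | ∃ g : T, y = g * w0 * g⁻¹} ∪ (K : Set T)) with hH
  have hHW : H ≤ W := by
    rw [hH, closure_le]
    rintro y (⟨g, rfl⟩ | hy)
    · exact (inferInstance : W.Normal).conj_mem w0 hw0 g
    · exact hKW hy
  have hKH : K ≤ H := by
    intro k hk
    exact subset_closure (Or.inr hk)
  -- the conjugates of `w0` give the indicator functions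
  have hind : ∀ h : T, θ (h * w0 * h⁻¹) = Pi.single (h : T ⧸ W) (1 : ZMod 2) := by
    intro h
    funext d
    obtain ⟨d', rfl⟩ := QuotientGroup.mk_surjective d
    rw [hθ.equi w0 hw0 h d', hw0θ, Pi.single_apply, Pi.single_apply]
    have hiff : (((h⁻¹ * d' : T) : T ⧸ W) = 1) ↔ ((d' : T ⧸ W) = (h : T ⧸ W)) := by
      rw [QuotientGroup.eq_one_iff, QuotientGroup.eq]
      constructor
      · intro h1
        have := W.inv_mem h1
        simpa [mul_inv_rev] using this
      · intro h1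
        have := W.inv_mem h1
        simpa [mul_inv_rev] using this
    by_cases hc : ((d' : T ⧸ W) = (h : T ⧸ W))
    · rw [if_pos hc, if_pos (hiff.2 hc)]
    · rw [if_neg hc, if_neg (fun h1 => hc (hiff.1 h1))]
  -- the functions realised by `H`
  let A : AddSubgroup (T ⧸ W → ZMod 2) :=
    { carrier := {φ | ∃ u ∈ H, θ u = φ}
      zero_mem' := ⟨1, H.one_mem, t74_cyc_theta_one W K θ hθ⟩
      add_mem' := by
        rintro _ _ ⟨u, hu, rfl⟩ ⟨v, hv, rfl⟩
        exact ⟨u * v, H.mul_mem hu hv, hθ.add u (hHW hu) v (hHW hv)⟩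
      neg_mem' := by
        rintro _ ⟨u, hu, rfl⟩
        refine ⟨u, hu, ?_⟩
        funext c
        rw [Pi.neg_apply, t74_cyc_neg] }
  have hsingle : ∀ (c : T ⧸ W) (a : ZMod 2), Pi.single c a ∈ A := by
    intro c a
    obtain ⟨h, rfl⟩ := QuotientGroup.mk_surjective c
    have h01 : a = 0 ∨ a = 1 := by revert a; decide
    rcases h01 with rfl | rfl
    · rw [Pi.single_zero]
      exact A.zero_mem
    · exact ⟨h * w0 * h⁻¹, subset_closure (Or.inl ⟨h, rfl⟩), hind h⟩
  have hall : ∀ φ : T ⧸ W → ZMod 2, φ ∈ A := by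
    intro φ
    rw [← Finset.univ_sum_single φ]
    exact A.sum_mem (fun c _ => hsingle c (φ c))
  intro w hw
  obtain ⟨u, hu, huθ⟩ := hall (θ w)
  have hk : u⁻¹ * w ∈ K := by
    rw [← hθ.ker (u⁻¹ * w) (W.mul_mem (W.inv_mem (hHW hu)) hw)]
    rw [hθ.add u⁻¹ (W.inv_mem (hHW hu)) w hw, t74_cyc_theta_inv W K θ hθ u (hHW hu), huθ]
    funext c
    rw [Pi.add_apply, Pi.zero_apply, t74_cyc_add_self]
  have : w = u * (u⁻¹ * w) := by group
  rw [this]
  exact H.mul_mem hu (hKH hk)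

end Cfsg.Agent.Helper16.T74
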