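import Mathlib
import Cfsg.Agent.Lib.Helper16.T74Defs
import Cfsg.Agent.Lib.Helper19.PGroupBasic
import Cfsg.Agent.Lib.T74.T74EMBF

/-!
# S3174 piece T74-EMB (helper16's skeleton): the `T`-equivariant embedding
`θ : W/K → (T/W → ZMod 2)`.  Typed by helper19.
-/

namespace Cfsg.Agent.Helper16.T74

open scoped commutatorElement
open Subgroup

/-- an element whose image in `T ⧸ K` is central has all commutators in `K` -/
theorem t74_emb_comm_of_center {T : Type*} [Group T] (K : Subgroup T) [K.Normal] (x : T)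
    (hx : (QuotientGroup.mk' K) x ∈ center (T ⧸ K)) (g : T) : ⁅g, x⁆ ∈ K := by
  rw [← QuotientGroup.eq_one_iff]
  have h1 : ((⁅g, x⁆ : T) : T ⧸ K) = ⁅(QuotientGroup.mk' K) g, (QuotientGroup.mk' K) x⁆ :=
    map_commutatorElement (QuotientGroup.mk' K) g x
  rw [h1, commutatorElement_eq_one_iff_mul_comm]
  exact (Subgroup.mem_center_iff.1 hx) _

/-- a normal subgroup strictly above `K` contains, outside `K`, an element central modulo `K` -/
theorem t74_emb_fp {T : Type*} [Group T] [Finite T] (hT : IsPGroup 2 T) (K N : Subgroup T)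
    [K.Normal] [N.Normal] (hne : ¬ N ≤ K) :
    ∃ x ∈ N, x ∉ K ∧ (QuotientGroup.mk' K) x ∈ center (T ⧸ K) := by
  have hT' : IsPGroup 2 (T ⧸ K) := hT.to_quotient K
  have hnorm : (N.map (QuotientGroup.mk' K)).Normal :=
    Subgroup.Normal.map inferInstance _ (QuotientGroup.mk'_surjective _)
  have hnb : N.map (QuotientGroup.mk' K) ≠ ⊥ := by
    intro h
    apply hne
    intro x hx
    have h1 : (QuotientGroup.mk' K) x ∈ N.map (QuotientGroup.mk' K) :=
      Subgroup.mem_map_of_mem _ hx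
    rw [h, Subgroup.mem_bot] at h1
    exact (QuotientGroup.eq_one_iff x).1 h1
  have hmeet := Cfsg.Agent.Helper19.normal_inf_center_ne_bot hT' _ hnb
  obtain ⟨⟨y, hy⟩, hy1⟩ := (Subgroup.ne_bot_iff_exists_ne_one).1 hmeet
  obtain ⟨x, hxN, rfl⟩ := hy.1
  refine ⟨x, hxN, ?_, hy.2⟩
  intro hxK
  apply hy1
  apply Subtype.ext
  exact (QuotientGroup.eq_one_iff x).2 hxK

/-- `f (x⁻¹ w x)` only depends on the coset `x W` -/
theorem t74_emb_wd {T : Type*} [Group T] (W K : Subgroup T) [W.Normal] (hKW : K ≤ W)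
    (hcomm : ∀ u ∈ W, ∀ v ∈ W, ⁅u, v⁆ ∈ K) (f : T → ZMod 2)
    (hfadd : ∀ u ∈ W, ∀ v ∈ W, f (u * v) = f u + f v) (hfK : ∀ k ∈ K, f k = 0)
    (w : T) (hw : w ∈ W) (x y : T) (hxy : x⁻¹ * y ∈ W) :
    f (x⁻¹ * w * x) = f (y⁻¹ * w * y) := by
  have hu : x⁻¹ * w * x ∈ W := by
    have := (inferInstance : W.Normal).conj_mem w hw x⁻¹
    simpa using this
  have hn' : (x⁻¹ * y)⁻¹ ∈ W := W.inv_mem hxy
  have hc := hcomm (x⁻¹ * w * x)⁻¹ (W.inv_mem hu) (x⁻¹ * y)⁻¹ hn'
  have h1 : y⁻¹ * w * y = (x⁻¹ * w * x) * ⁅(x⁻¹ * w * x)⁻¹, (x⁻¹ * y)⁻¹⁆ := by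
    rw [commutatorElement_def]
    group
  rw [h1, hfadd _ hu _ (hKW hc), hfK _ hc, add_zero]

/-- T74-EMB -/
theorem exists_theta {T : Type*} [Group T] [Finite T] (hT : IsPGroup 2 T) (W K : Subgroup T)
    [W.Normal] [K.Normal] (hKW : K ≤ W)
    (hsq : ∀ w ∈ W, w ^ 2 ∈ K) (hcomm : ∀ u ∈ W, ∀ v ∈ W, ⁅u, v⁆ ∈ K)
    (hfix : ∀ F : Subgroup T, K ≤ F → F ≤ W → (∀ x ∈ F, ∀ g : T, ⁅g, x⁆ ∈ K) →
      Nat.card ↥F ≤ 2 * Nat.card ↥K) :
    ∃ θ : T → (T ⧸ W → ZMod 2), IsTheta W K θ := by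
  classical
  by_cases hWK : W ≤ K
  · refine ⟨fun _ _ => 0, ?_, ?_, ?_⟩
    · intro u _ v _
      funext c
      simp
    · intro w hw
      constructor
      · intro _
        exact hWK hw
      · intro _
        rfl
    · intro w _ g h
      rfl
  -- the subgroup of elements of `W` central modulo `K`
  set F0 : Subgroup T := W ⊓ (center (T ⧸ K)).comap (QuotientGroup.mk' K) with hF0
  have hKF0 : K ≤ F0 := by
    intro k hk
    refine ⟨hKW hk, ?_⟩
    show (QuotientGroup.mk' K) k ∈ center (T ⧸ K)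
    have : (QuotientGroup.mk' K) k = 1 := (QuotientGroup.eq_one_iff k).2 hk
    rw [this]
    exact Subgroup.one_mem _
  have hF0W : F0 ≤ W := inf_le_left
  have hF0c : ∀ x ∈ F0, ∀ g : T, ⁅g, x⁆ ∈ K := by
    intro x hx g
    exact t74_emb_comm_of_center K x hx.2 g
  have hF0card := hfix F0 hKF0 hF0W hF0c
  -- a fixed point outside `K`
  obtain ⟨s, hsW, hsK, hsc⟩ := t74_emb_fp hT K W hWK
  have hsF0 : s ∈ F0 := ⟨hsW, hsc⟩
  -- `F0 = K ∪ s K`
  have hidx : (K.subgroupOf F0).index = 2 := by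
    have h1 : Nat.card ↥(K.subgroupOf F0) * (K.subgroupOf F0).index = Nat.card ↥F0 :=
      Subgroup.card_mul_index _
    have h2 : Nat.card ↥(K.subgroupOf F0) = Nat.card ↥K :=
      Nat.card_congr (Subgroup.subgroupOfEquivOfLe hKF0).toEquiv
    rw [h2] at h1
    have hKpos : 0 < Nat.card ↥K := Nat.card_pos
    have hle : (K.subgroupOf F0).index ≤ 2 := by
      have h3 : Nat.card ↥K * (K.subgroupOf F0).index ≤ Nat.card ↥K * 2 := by
        rw [h1, mul_comm]
        exact hF0card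
      exact Nat.le_of_mul_le_mul_left h3 hKpos
    have hne1 : (K.subgroupOf F0).index ≠ 1 := by
      intro h
      rw [Subgroup.index_eq_one] at h
      apply hsK
      have : (⟨s, hsF0⟩ : ↥F0) ∈ K.subgroupOf F0 := by rw [h]; exact Subgroup.mem_top _
      exact this
    have hne0 : (K.subgroupOf F0).index ≠ 0 := Subgroup.index_ne_zero_of_finite
    omega
  have hcoset : ∀ x ∈ F0, x ∉ K → s⁻¹ * x ∈ K := by
    intro x hx hxK
    have h := Subgroup.mul_mem_iff_of_index_two hidx (a := (⟨s, hsF0⟩ : ↥F0)⁻¹) (b := ⟨x, hx⟩)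
    have h1 : ((⟨s, hsF0⟩ : ↥F0)⁻¹ ∈ K.subgroupOf F0 ↔ (⟨x, hx⟩ : ↥F0) ∈ K.subgroupOf F0) := by
      constructor
      · intro h2
        exfalso
        apply hsK
        have h3 := (K.subgroupOf F0).inv_mem h2
        rw [inv_inv] at h3
        exact h3
      · intro h2
        exact absurd h2 hxK
    have h4 := h.2 h1
    exact h4
  -- the functional
  have hKn : ∀ w ∈ W, ∀ k ∈ K, w * k * w⁻¹ ∈ K := fun w _ k hk =>
    (inferInstance : K.Normal).conj_mem k hk w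
  obtain ⟨f, hfadd, hfK, hfs⟩ := exists_functional W K hKW hKn hsq hcomm s hsW hsK
  have hwd := t74_emb_wd W K hKW hcomm f hfadd hfK
  have hconjW : ∀ (w : T), w ∈ W → ∀ x : T, x⁻¹ * w * x ∈ W := by
    intro w hw x
    have := (inferInstance : W.Normal).conj_mem w hw x⁻¹
    simpa using this
  -- the map
  set θ : T → (T ⧸ W → ZMod 2) := fun w c => f (c.out⁻¹ * w * c.out) with hθdef
  have hθapp : ∀ (w : T) (c : T ⧸ W), θ w c = f (c.out⁻¹ * w * c.out) := fun _ _ => rfl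
  have hout : ∀ h : T, h⁻¹ * ((h : T ⧸ W).out) ∈ W := by
    intro h
    obtain ⟨n, hn⟩ := QuotientGroup.mk_out_eq_mul W h
    rw [hn]
    simp
  have hadd : ∀ u ∈ W, ∀ v ∈ W, θ (u * v) = θ u + θ v := by
    intro u hu v hv
    funext c
    rw [Pi.add_apply, hθapp, hθapp, hθapp, ← hfadd _ (hconjW u hu _) _ (hconjW v hv _)]
    congr 1
    group
  have hequi : ∀ w ∈ W, ∀ g h : T, θ (g * w * g⁻¹) (h : T ⧸ W) = θ w ((g⁻¹ * h : T) : T ⧸ W) := by
    intro w hw g h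
    rw [hθapp, hθapp]
    have h1 : ((h : T ⧸ W).out)⁻¹ * (g * w * g⁻¹) * (h : T ⧸ W).out =
        (g⁻¹ * (h : T ⧸ W).out)⁻¹ * w * (g⁻¹ * (h : T ⧸ W).out) := by group
    rw [h1]
    apply hwd w hw
    have h2 := hout h
    have h3 := hout (g⁻¹ * h)
    have h4 : (g⁻¹ * (h : T ⧸ W).out)⁻¹ * (((g⁻¹ * h : T) : T ⧸ W).out) =
        (h⁻¹ * (h : T ⧸ W).out)⁻¹ * ((g⁻¹ * h)⁻¹ * (((g⁻¹ * h : T) : T ⧸ W).out)) := by group
    rw [h4]
    exact W.mul_mem (W.inv_mem h2) h3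
  have hθone : θ 1 = 0 := by
    funext c
    rw [hθapp, Pi.zero_apply]
    have : c.out⁻¹ * 1 * c.out = 1 := by group
    rw [this]
    exact hfK 1 K.one_mem
  have hθinv : ∀ u ∈ W, θ u⁻¹ = θ u := by
    intro u hu
    have h := hadd u hu u⁻¹ (W.inv_mem hu)
    rw [mul_inv_cancel, hθone] at h
    funext c
    have hc := congrFun h c
    rw [Pi.zero_apply, Pi.add_apply] at hc
    generalize θ u c = a at hc
    generalize θ u⁻¹ c = b at hc
    revert a b
    decide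
  have hθK : ∀ k ∈ K, θ k = 0 := by
    intro k hk
    funext c
    rw [hθapp, Pi.zero_apply]
    apply hfK
    have := (inferInstance : K.Normal).conj_mem k hk c.out⁻¹
    simpa using this
  -- the kernel
  let Ker : Subgroup T :=
    { carrier := {w | w ∈ W ∧ θ w = 0}
      one_mem' := ⟨W.one_mem, hθone⟩
      mul_mem' := by
        rintro u v ⟨hu, hu0⟩ ⟨hv, hv0⟩
        refine ⟨W.mul_mem hu hv, ?_⟩
        rw [hadd u hu v hv, hu0, hv0, add_zero]
      inv_mem' := by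
        rintro u ⟨hu, hu0⟩
        exact ⟨W.inv_mem hu, by rw [hθinv u hu, hu0]⟩ }
  have hKerN : Ker.Normal := by
    constructor
    rintro w ⟨hw, hw0⟩ g
    refine ⟨(inferInstance : W.Normal).conj_mem w hw g, ?_⟩
    funext c
    obtain ⟨h, rfl⟩ := QuotientGroup.mk_surjective c
    rw [hequi w hw g h, hw0]
    rfl
  have hKKer : K ≤ Ker := fun k hk => ⟨hKW hk, hθK k hk⟩
  have hKerK : Ker ≤ K := by
    by_contra hcon
    obtain ⟨x, hxKer, hxK, hxc⟩ := t74_emb_fp hT K Ker hcon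
    have hxF0 : x ∈ F0 := ⟨hxKer.1, hxc⟩
    have h1 := hcoset x hxF0 hxK
    have hs : s ∈ Ker := by
      have h2 : s = x * (s⁻¹ * x)⁻¹ := by group
      rw [h2]
      exact Ker.mul_mem hxKer (Ker.inv_mem (hKKer h1))
    have h3 : θ s ((1 : T) : T ⧸ W) = 0 := by
      rw [hs.2]
      rfl
    rw [hθapp] at h3
    have ha : (((1 : T) : T ⧸ W).out) ∈ W := by
      have := hout 1
      simpa using this
    have h4 : f ((((1 : T) : T ⧸ W).out)⁻¹ * s * (((1 : T) : T ⧸ W).out)) =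
        f ((1 : T)⁻¹ * s * 1) := by
      apply hwd s hsW
      rw [mul_one]
      exact W.inv_mem ha
    rw [h4] at h3
    have h5 : (1 : T)⁻¹ * s * 1 = s := by group
    rw [h5, hfs] at h3
    exact one_ne_zero h3
  refine ⟨θ, hadd, ?_, hequi⟩
  intro w hw
  constructor
  · intro h0
    exact hKerK ⟨hw, h0⟩
  · intro hk
    exact hθK w hk

end Cfsg.Agent.Helper16.T74
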