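import Mathlib
import Cfsg.Agent.Lib.Helper16.T74Defs

namespace Cfsg.Agent.Helper16.T74

open scoped commutatorElement
open Subgroup

theorem t74_embcard_theta_one {T : Type*} [Group T] (W K : Subgroup T)
    (θ : T → (T ⧸ W → ZMod 2)) (hθ : IsTheta W K θ) : θ 1 = 0 := by
  have h := hθ.add 1 W.one_mem 1 W.one_mem
  rw [mul_one] at h
  have h2 : θ 1 + θ 1 = θ 1 + 0 := by rw [add_zero]; exact h.symm
  exact add_left_cancel h2

theorem t74_embcard_theta_inv {T : Type*} [Group T] (W K : Subgroup T)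
    (θ : T → (T ⧸ W → ZMod 2)) (hθ : IsTheta W K θ) (u : T) (hu : u ∈ W) :
    θ u⁻¹ = θ u := by
  have h := hθ.add u⁻¹ (W.inv_mem hu) u hu
  rw [inv_mul_cancel, t74_embcard_theta_one W K θ hθ] at h
  have h2 : ∀ x : T ⧸ W → ZMod 2, x + x = 0 := by
    intro x; funext c; simp only [Pi.add_apply, Pi.zero_apply]
    generalize x c = y; revert y; decide
  have h3 : θ u⁻¹ + θ u = θ u + θ u := by rw [← h, h2]
  exact add_right_cancel h3

/-- T74-EMBCARD -/
theorem card_le_of_theta {T : Type*} [Group T] [Finite T] (W K : Subgroup T) [W.Normal]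
    (hKW : K ≤ W) (θ : T → (T ⧸ W → ZMod 2)) (hθ : IsTheta W K θ) :
    Nat.card ↥W ≤ 2 ^ W.index * Nat.card ↥K := by
  have hself : ∀ x : T ⧸ W → ZMod 2, x + x = 0 := by
    intro x; funext c; simp only [Pi.add_apply, Pi.zero_apply]
    generalize x c = y; revert y; decide
  -- the injection from the coset space
  let K' : Subgroup ↥W := K.subgroupOf W
  have hrel : ∀ a b : ↥W, (QuotientGroup.leftRel K') a b → θ a.1 = θ b.1 := by
    intro a b hab
    rw [QuotientGroup.leftRel_apply] at hab
    have hm : (a.1)⁻¹ * b.1 ∈ K := by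
      have := (Subgroup.mem_subgroupOf).1 hab
      simpa using this
    have hz : θ ((a.1)⁻¹ * b.1) = 0 := (hθ.ker _ (W.mul_mem (W.inv_mem a.2) b.2)).2 hm
    rw [hθ.add _ (W.inv_mem a.2) _ b.2, t74_embcard_theta_inv W K θ hθ a.1 a.2] at hz
    have : θ a.1 + θ a.1 = θ a.1 + θ b.1 := by rw [hz, hself]
    exact add_left_cancel this
  let g : (↥W ⧸ K') → (T ⧸ W → ZMod 2) :=
    Quotient.lift (s := QuotientGroup.leftRel K') (fun w : ↥W => θ w.1) hrel
  have hginj : Function.Injective g := by
    intro x y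
    induction x using Quotient.inductionOn with
    | h a =>
      induction y using Quotient.inductionOn with
      | h b =>
        intro hxy
        have hxy' : θ a.1 = θ b.1 := hxy
        apply Quotient.sound
        show (QuotientGroup.leftRel K') a b
        rw [QuotientGroup.leftRel_apply]
        rw [Subgroup.mem_subgroupOf]
        have hz : θ ((a.1)⁻¹ * b.1) = 0 := by
          rw [hθ.add _ (W.inv_mem a.2) _ b.2, t74_embcard_theta_inv W K θ hθ a.1 a.2, hxy', hself]
        have := (hθ.ker _ (W.mul_mem (W.inv_mem a.2) b.2)).1 hz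
        simpa using this
  have h1 : Nat.card (↥W ⧸ K') ≤ Nat.card (T ⧸ W → ZMod 2) :=
    Nat.card_le_card_of_injective g hginj
  have h2 : Nat.card (T ⧸ W → ZMod 2) = 2 ^ W.index := by
    rw [Nat.card_fun, Nat.card_zmod, Subgroup.index]
  have h3 : Nat.card ↥W = Nat.card (↥W ⧸ K') * Nat.card ↥K' :=
    Subgroup.card_eq_card_quotient_mul_card_subgroup K'
  have h4 : Nat.card ↥K' = Nat.card ↥K :=
    Nat.card_congr (Subgroup.subgroupOfEquivOfLe hKW).toEquiv
  rw [h3, h4, ← h2]
  exact Nat.mul_le_mul_right _ h1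

end Cfsg.Agent.Helper16.T74
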