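import Mathlib
import Cfsg.Agent.Lib.Helper16.T74Defs
import Cfsg.Agent.Lib.T74.T74EMBCARD

namespace Cfsg.Agent.Helper16.T74

open scoped commutatorElement
open Subgroup

/-- T74-EMBSURJ -/
theorem theta_surjective {T : Type*} [Group T] [Finite T] (W K : Subgroup T) [W.Normal]
    (hKW : K ≤ W) (θ : T → (T ⧸ W → ZMod 2)) (hθ : IsTheta W K θ)
    (hcard : Nat.card ↥W = 2 ^ W.index * Nat.card ↥K) :
    ∀ φ : T ⧸ W → ZMod 2, ∃ w ∈ W, θ w = φ := by
  have hself : ∀ x : T ⧸ W → ZMod 2, x + x = 0 := by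
    intro x; funext c; simp only [Pi.add_apply, Pi.zero_apply]
    generalize x c = y; revert y; decide
  let K' : Subgroup ↥W := K.subgroupOf W
  have hrel : ∀ a b : ↥W, (QuotientGroup.leftRel K') a b → θ a.1 = θ b.1 := by
    intro a b hab
    rw [QuotientGroup.leftRel_apply] at hab
    have hm : (a.1)⁻¹ * b.1 ∈ K := by
      have := (Subgroup.mem_subgroupOf).1 hab
      simpa using this
    have hz : θ ((a.1)⁻¹ * b.1) = 0 := (hθ.ker _ (W.mul_mem (W.inv_mem a.2) b.2)).2 hm
    rw [hθ.add _ (W.inv_mem a.2) _ b.2, t74_embcard_theta_inv W K θ hθ a.1 a.2] at hz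
    have : θ a.1 + θ a.1 = θ a.1 + θ b.1 := by rw [hz, hself]
    exact add_left_cancel this
  let g : (↥W ⧸ K') → (T ⧸ W → ZMod 2) :=
    Quotient.lift (s := QuotientGroup.leftRel K') (fun w : ↥W => θ w.1) hrel
  have hginj : Function.Injective g := by
    intro x y
    induction x using Quotient.inductionOn with
    | h a =>
      induction y using Quotient.inductionOn with
      | h b =>
        intro hxy
        have hxy' : θ a.1 = θ b.1 := hxy
        apply Quotient.sound
        show (QuotientGroup.leftRel K') a b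
        rw [QuotientGroup.leftRel_apply]
        rw [Subgroup.mem_subgroupOf]
        have hz : θ ((a.1)⁻¹ * b.1) = 0 := by
          rw [hθ.add _ (W.inv_mem a.2) _ b.2, t74_embcard_theta_inv W K θ hθ a.1 a.2, hxy', hself]
        have := (hθ.ker _ (W.mul_mem (W.inv_mem a.2) b.2)).1 hz
        simpa using this
  have h2 : Nat.card (T ⧸ W → ZMod 2) = 2 ^ W.index := by
    rw [Nat.card_fun, Nat.card_zmod, Subgroup.index]
  have h3 : Nat.card ↥W = Nat.card (↥W ⧸ K') * Nat.card ↥K' :=
    Subgroup.card_eq_card_quotient_mul_card_subgroup K'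
  have h4 : Nat.card ↥K' = Nat.card ↥K :=
    Nat.card_congr (Subgroup.subgroupOfEquivOfLe hKW).toEquiv
  have hKpos : 0 < Nat.card ↥K := Nat.card_pos
  have h5 : Nat.card (↥W ⧸ K') = 2 ^ W.index := by
    have h6 : Nat.card (↥W ⧸ K') * Nat.card ↥K = 2 ^ W.index * Nat.card ↥K := by
      rw [← h4, ← h3, hcard, h4]
    exact Nat.eq_of_mul_eq_mul_right hKpos h6
  have hgsurj : Function.Surjective g := by
    have hb : Function.Bijective g := by
      rw [Nat.bijective_iff_injective_and_card]
      exact ⟨hginj, by rw [h5, h2]⟩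
    exact hb.2
  intro φ
  obtain ⟨x, hx⟩ := hgsurj φ
  induction x using Quotient.inductionOn with
  | h a => exact ⟨a.1, a.2, hx⟩

end Cfsg.Agent.Helper16.T74
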