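import Mathlib
import Cfsg.Agent.Lib.Helper16.T74Defs

/-!
# T74-F1 (helper28): `bform_conj_self`

For `t ∈ C_T(Z₂)` with `t² ∈ W` and `w ∈ W` the commutator `⁅w, t w t⁻¹⁆` lies in `Z₂`.
The proof is direct (no use of the piece BFORM).
-/

namespace Cfsg.Agent.Helper16.T74

open scoped commutatorElement
open Subgroup

/-- Elements of `Z3` commute with elements of `W`. -/
theorem t74_f1_comm {T : Type*} [Group T] {W Z1 Z2 Z3 : Subgroup T}
    (S : Setting W Z1 Z2 Z3) (w : T) (hw : w ∈ W) (z : T) (hz : z ∈ Z3) : z * w = w * z := by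
  have hw' : w ∈ centralizer (Z3 : Set T) := S.hWc ▸ hw
  exact Subgroup.mem_centralizer_iff.1 hw' z hz

/-- The case `t ∈ W`. -/
theorem t74_f1_inW {T : Type*} [Group T] {W Z1 Z2 Z3 : Subgroup T}
    (S : Setting W Z1 Z2 Z3) (t : T) (ht : t ∈ W) (w : T) (hw : w ∈ W) :
    ⁅w, t * w * t⁻¹⁆ = 1 := by
  have hk : ⁅t, w⁆ ∈ Z3 := S.comm t ht w hw
  have hc := t74_f1_comm S w hw _ hk
  have e : t * w * t⁻¹ = ⁅t, w⁆ * w := by simp only [commutatorElement_def]; group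
  rw [e]
  generalize ⁅t, w⁆ = k at hc
  calc ⁅w, k * w⁆ = (w * k) * w⁻¹ * k⁻¹ := by simp only [commutatorElement_def]; group
    _ = (k * w) * w⁻¹ * k⁻¹ := by rw [hc]
    _ = 1 := by group

/-- `t` commutes with `y = ⁅w, t w t⁻¹⁆`. -/
theorem t74_f1_comm_y {T : Type*} [Group T] {W Z1 Z2 Z3 : Subgroup T}
    (S : Setting W Z1 Z2 Z3) (t : T) (ht2 : t ^ 2 ∈ W) (w : T) (hw : w ∈ W) :
    t * ⁅w, t * w * t⁻¹⁆ = ⁅w, t * w * t⁻¹⁆ * t := by
  have hnW := S.nW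
  obtain ⟨u, hu_def⟩ : ∃ u, u = t * w * t⁻¹ := ⟨_, rfl⟩
  obtain ⟨k, hk_def⟩ : ∃ k, k = ⁅t ^ 2, w⁆ := ⟨_, rfl⟩
  have hu : u ∈ W := by rw [hu_def]; exact hnW.conj_mem w hw t
  have hk : k ∈ Z3 := by rw [hk_def]; exact S.comm _ ht2 w hw
  have hy3 : ⁅w, u⁆ ∈ Z3 := S.comm w hw u hu
  have hy3' : ⁅u, w⁆ ∈ Z3 := S.comm u hu w hw
  have e1 : t * ⁅w, u⁆ * t⁻¹ = ⁅u, k * w⁆ := by
    subst hu_def hk_def
    simp only [commutatorElement_def]; group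
  have hcu : k * u = u * k := t74_f1_comm S u hu k hk
  have hck : k * ⁅u, w⁆ = ⁅u, w⁆ * k := t74_f1_comm S _ (S.h3W hy3') k hk
  have e2 : ⁅u, k * w⁆ = ⁅u, w⁆ := by
    calc ⁅u, k * w⁆ = (u * k) * w * u⁻¹ * w⁻¹ * k⁻¹ := by
          simp only [commutatorElement_def]; group
      _ = (k * u) * w * u⁻¹ * w⁻¹ * k⁻¹ := by rw [hcu]
      _ = (k * ⁅u, w⁆) * k⁻¹ := by simp only [commutatorElement_def]; group
      _ = (⁅u, w⁆ * k) * k⁻¹ := by rw [hck]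
      _ = ⁅u, w⁆ := by group
  have e3 : ⁅u, w⁆ = ⁅w, u⁆⁻¹ := (commutatorElement_inv w u).symm
  have e4 : ⁅w, u⁆⁻¹ = ⁅w, u⁆ := by
    have h := S.exp3 _ hy3
    rw [pow_two] at h
    exact inv_eq_of_mul_eq_one_right h
  have e5 : t * ⁅w, u⁆ * t⁻¹ = ⁅w, u⁆ := by rw [e1, e2, e3, e4]
  rw [← hu_def]
  exact mul_inv_eq_iff_eq_mul.1 e5

/-- T74-F1 -/
theorem bform_conj_self {T : Type*} [Group T] [Finite T] {W Z1 Z2 Z3 : Subgroup T}
    (S : Setting W Z1 Z2 Z3) (t : T) (ht : t ∈ centralizer (Z2 : Set T)) (ht2 : t ^ 2 ∈ W) :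
    ∀ w ∈ W, bform Z2 w (t * w * t⁻¹) = 0 := by
  intro w hw
  rw [bform_eq_zero_iff]
  by_contra hy
  have hnW := S.nW
  have hu : t * w * t⁻¹ ∈ W := hnW.conj_mem w hw t
  have hy3 : ⁅w, t * w * t⁻¹⁆ ∈ Z3 := S.comm w hw _ hu
  have hty := t74_f1_comm_y S t ht2 w hw
  -- the subgroup of `Z3` centralised by `t`
  have hC2 : Z2 ≤ Z3 ⊓ centralizer ({t} : Set T) := by
    intro z hz
    refine Subgroup.mem_inf.2 ⟨S.h23 hz, ?_⟩
    rw [Subgroup.mem_centralizer_iff]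
    intro h hh
    rw [Set.mem_singleton_iff] at hh
    subst hh
    exact (Subgroup.mem_centralizer_iff.1 ht z hz).symm
  have hyC : ⁅w, t * w * t⁻¹⁆ ∈ Z3 ⊓ centralizer ({t} : Set T) := by
    refine Subgroup.mem_inf.2 ⟨hy3, ?_⟩
    rw [Subgroup.mem_centralizer_iff]
    intro h hh
    rw [Set.mem_singleton_iff] at hh
    subst hh
    exact hty
  have hC3 : Z3 ⊓ centralizer ({t} : Set T) ≤ Z3 := inf_le_left
  have hd1 : Nat.card ↥Z2 ∣ Nat.card ↥(Z3 ⊓ centralizer ({t} : Set T)) :=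
    Subgroup.card_dvd_of_le hC2
  have hd2 : Nat.card ↥(Z3 ⊓ centralizer ({t} : Set T)) ∣ Nat.card ↥Z3 :=
    Subgroup.card_dvd_of_le hC3
  rw [S.c2] at hd1
  rw [S.c3] at hd2
  have hne4 : Nat.card ↥(Z3 ⊓ centralizer ({t} : Set T)) ≠ 4 := by
    intro h4
    have : Z2 = Z3 ⊓ centralizer ({t} : Set T) :=
      Subgroup.eq_of_le_of_card_ge hC2 (by rw [h4, S.c2])
    exact hy (this ▸ hyC)
  have h8 : Nat.card ↥(Z3 ⊓ centralizer ({t} : Set T)) = 8 := by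
    have hle := Nat.le_of_dvd (by norm_num) hd2
    generalize Nat.card ↥(Z3 ⊓ centralizer ({t} : Set T)) = n at *
    interval_cases n <;> omega
  have hCeq : Z3 ⊓ centralizer ({t} : Set T) = Z3 :=
    Subgroup.eq_of_le_of_card_ge hC3 (by rw [h8, S.c3])
  have htZ3 : t ∈ centralizer (Z3 : Set T) := by
    rw [Subgroup.mem_centralizer_iff]
    intro z hz
    have hzC : z ∈ Z3 ⊓ centralizer ({t} : Set T) := by rw [hCeq]; exact hz
    have := (Subgroup.mem_inf.1 hzC).2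
    rw [Subgroup.mem_centralizer_iff] at this
    exact (this t (Set.mem_singleton t)).symm
  have htW : t ∈ W := by rw [S.hWc]; exact htZ3
  exact hy (by rw [t74_f1_inW S t htW w hw]; exact Z2.one_mem)

end Cfsg.Agent.Helper16.T74
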