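import Mathlib
import Cfsg.Agent.Lib.Helper16.T74Defs
import Cfsg.Agent.Lib.T74.T74BFORM

/-! S3174 farm-out (designer helper16), piece T74-F2: the sum of `bform w (c w c⁻¹)` over the cosets
vanishes when `Z(W)` contains a `T`-invariant element outside `Z3`. -/

namespace Cfsg.Agent.Helper16.T74

open scoped commutatorElement
open Subgroup

theorem t74_f2_zmod2 (a : ZMod 2) : a = 0 ∨ a = 1 := by
  revert a; decide

theorem t74_f2_theta_one {T : Type*} [Group T] {W K : Subgroup T} (θ : T → (T ⧸ W → ZMod 2))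
    (hθ : IsTheta W K θ) : θ 1 = 0 := by
  have h := hθ.add 1 W.one_mem 1 W.one_mem
  rw [one_mul] at h
  exact left_eq_add.mp h

theorem t74_f2_theta_inv {T : Type*} [Group T] {W K : Subgroup T} (θ : T → (T ⧸ W → ZMod 2))
    (hθ : IsTheta W K θ) (x : T) (hx : x ∈ W) : θ x⁻¹ = θ x := by
  have h := hθ.add x hx x⁻¹ (W.inv_mem hx)
  rw [mul_inv_cancel, t74_f2_theta_one θ hθ] at h
  funext d
  have hd := congrFun h d
  simp only [Pi.zero_apply, Pi.add_apply] at hd
  have h2 : ∀ a b : ZMod 2, 0 = a + b → b = a := by decide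
  exact h2 _ _ hd

/-- the ordered product: existence of `P` realising both sums. -/
theorem t74_f2_exists_prod {T : Type*} [Group T] [Finite T] {W Z1 Z2 Z3 : Subgroup T}
    (S : Setting W Z1 Z2 Z3) (θ : T → (T ⧸ W → ZMod 2)) (hθ : IsTheta W Z3 θ) (w : T) (hw : w ∈ W)
    (s : Finset (T ⧸ W)) :
    ∃ P ∈ W, θ P = ∑ c ∈ s, θ (c.out * w * c.out⁻¹) ∧
      bform Z2 w P = ∑ c ∈ s, bform Z2 w (c.out * w * c.out⁻¹) := by
  classical
  have hn := S.nW
  obtain ⟨hadd, -, h3, -, -, -⟩ := bform_props S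
  induction s using Finset.induction_on with
  | empty =>
    refine ⟨1, W.one_mem, ?_, ?_⟩
    · rw [Finset.sum_empty]; exact t74_f2_theta_one θ hθ
    · rw [Finset.sum_empty]; exact h3 w hw 1 Z3.one_mem
  | insert c s hc ih =>
    obtain ⟨P, hP, h1, h2⟩ := ih
    have hcw : c.out * w * c.out⁻¹ ∈ W := hn.conj_mem w hw c.out
    refine ⟨c.out * w * c.out⁻¹ * P, W.mul_mem hcw hP, ?_, ?_⟩
    · rw [Finset.sum_insert hc, hθ.add _ hcw _ hP, h1]
    · rw [Finset.sum_insert hc, hadd w hw _ hcw _ hP, h2]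

/-- T74-F2 -/
theorem sum_bform_conj {T : Type*} [Group T] [Finite T] {W Z1 Z2 Z3 : Subgroup T}
    (S : Setting W Z1 Z2 Z3) [Fintype (T ⧸ W)] (θ : T → (T ⧸ W → ZMod 2)) (hθ : IsTheta W Z3 θ)
    (x : T) (hxW : x ∈ W) (hx3 : x ∉ Z3) (hxinv : ∀ g : T, ⁅g, x⁆ ∈ Z3)
    (hxc : ∀ w ∈ W, x * w = w * x) :
    ∀ w ∈ W, ∑ c : T ⧸ W, bform Z2 w (c.out * w * c.out⁻¹) = 0 := by
  intro w hw
  have hn : W.Normal := S.nW
  obtain ⟨hadd, -, h3, -, -, -⟩ := bform_props S
  obtain ⟨P, hP, h1, h2⟩ := t74_f2_exists_prod S θ hθ w hw Finset.univ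
  rw [← h2]
  -- `θ P` is the constant function `ε`
  have hconst : ∀ d : T ⧸ W, θ P d = ∑ e : T ⧸ W, θ w e := by
    intro d
    rw [h1, Finset.sum_apply]
    have hd : ((d.out : T) : T ⧸ W) = d := QuotientGroup.out_eq' d
    have step : ∀ c : T ⧸ W, θ (c.out * w * c.out⁻¹) d = θ w (c⁻¹ * d) := by
      intro c
      have := hθ.equi w hw c.out d.out
      rw [hd] at this
      rw [this, QuotientGroup.mk_mul, QuotientGroup.mk_inv, hd, QuotientGroup.out_eq']
    rw [Finset.sum_congr rfl (fun c _ => step c)]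
    exact Equiv.sum_comp ((Equiv.inv (T ⧸ W)).trans (Equiv.mulRight d)) (θ w)
  -- `θ x` is the constant function `1`
  have hxg : ∀ g : T, θ (g * x * g⁻¹) = θ x := by
    intro g
    have e : g * x * g⁻¹ = ⁅g, x⁆ * x := by simp only [commutatorElement_def]; group
    rw [e, hθ.add _ (S.h3W (hxinv g)) _ hxW, (hθ.ker _ (S.h3W (hxinv g))).mpr (hxinv g), zero_add]
  have hxconst : ∀ d d' : T ⧸ W, θ x d = θ x d' := by
    intro d d'
    have h := hθ.equi x hxW (d.out * d'.out⁻¹) d.out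
    rw [hxg, QuotientGroup.out_eq'] at h
    rw [h]
    congr 1
    rw [QuotientGroup.mk_mul, QuotientGroup.mk_inv, QuotientGroup.mk_mul, QuotientGroup.mk_inv,
      QuotientGroup.out_eq', QuotientGroup.out_eq']
    group
  have hx1 : ∀ d : T ⧸ W, θ x d = 1 := by
    have hne : θ x ≠ 0 := fun h => hx3 ((hθ.ker x hxW).mp h)
    obtain ⟨d0, hd0⟩ : ∃ d0, θ x d0 ≠ 0 := by
      by_contra hcon
      push Not at hcon
      exact hne (funext hcon)
    intro d
    rw [hxconst d d0]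
    rcases t74_f2_zmod2 (θ x d0) with h | h
    · exact (hd0 h).elim
    · exact h
  rcases t74_f2_zmod2 (∑ e : T ⧸ W, θ w e) with hε | hε
  · -- `P ∈ Z3`
    have hP0 : θ P = 0 := by
      funext d
      rw [hconst d, hε]; rfl
    exact h3 w hw P ((hθ.ker P hP).mp hP0)
  · -- `x⁻¹ * P ∈ Z3`
    have hk : x⁻¹ * P ∈ Z3 := by
      rw [← hθ.ker _ (W.mul_mem (W.inv_mem hxW) hP), hθ.add _ (W.inv_mem hxW) _ hP,
        t74_f2_theta_inv θ hθ x hxW]
      funext d
      rw [Pi.add_apply, hx1 d, hconst d, hε, Pi.zero_apply]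
      decide
    have hPx : P = x * (x⁻¹ * P) := by group
    rw [hPx, hadd w hw x hxW _ (S.h3W hk), h3 w hw _ hk, add_zero, bform_eq_zero_iff]
    have : ⁅w, x⁆ = 1 := commutatorElement_eq_one_iff_mul_comm.mpr (hxc w hw).symm
    rw [this]; exact Z2.one_mem

end Cfsg.Agent.Helper16.T74
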