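import Mathlib
import Cfsg.Agent.Lib.Helper16.T74Defs

/-! S3174 farm-out (designer helper16), piece T74-FLAG: the homomorphism `T →* H2` coming from the
action on the flag `Z1 < Z2 < Z3`. -/

namespace Cfsg.Agent.Helper16.T74

open scoped commutatorElement
open Subgroup

/-- index two: membership of a product. -/
theorem t74_flag_mul_mem_iff {T : Type*} [Group T] [Finite T] (A B : Subgroup T) (hAB : A ≤ B)
    (hc : Nat.card ↥B = 2 * Nat.card ↥A) (x y : T) (hx : x ∈ B) (hy : y ∈ B) :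
    x * y ∈ A ↔ (x ∈ A ↔ y ∈ A) := by
  have hidx : (A.subgroupOf B).index = 2 := by
    have h1 := (A.subgroupOf B).card_mul_index
    have h2 : Nat.card ↥(A.subgroupOf B) = Nat.card ↥A :=
      Nat.card_congr (Subgroup.subgroupOfEquivOfLe hAB).toEquiv
    rw [h2, hc] at h1
    have hpos : 0 < Nat.card ↥A := Nat.card_pos
    have h3 : Nat.card ↥A * (A.subgroupOf B).index = Nat.card ↥A * 2 := by rw [h1, mul_comm]
    exact Nat.eq_of_mul_eq_mul_left hpos h3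
  have := Subgroup.mul_mem_iff_of_index_two hidx (a := (⟨x, hx⟩ : ↥B)) (b := (⟨y, hy⟩ : ↥B))
  simpa [Subgroup.mem_subgroupOf] using this

open Classical in
/-- indicator of the complement of a subgroup, with values in `ZMod 2`. -/
noncomputable def t74_flag_chi {T : Type*} [Group T] (A : Subgroup T) (x : T) : ZMod 2 :=
  if x ∈ A then 0 else 1

theorem t74_flag_chi_of_mem {T : Type*} [Group T] (A : Subgroup T) (x : T) (hx : x ∈ A) :
    t74_flag_chi A x = 0 := by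
  unfold t74_flag_chi; rw [if_pos hx]

theorem t74_flag_chi_of_not_mem {T : Type*} [Group T] (A : Subgroup T) (x : T) (hx : x ∉ A) :
    t74_flag_chi A x = 1 := by
  unfold t74_flag_chi; rw [if_neg hx]

theorem t74_flag_chi_eq_zero_iff {T : Type*} [Group T] (A : Subgroup T) (x : T) :
    t74_flag_chi A x = 0 ↔ x ∈ A := by
  constructor
  · intro h
    by_contra hx
    rw [t74_flag_chi_of_not_mem A x hx] at h
    exact one_ne_zero h
  · exact t74_flag_chi_of_mem A x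

theorem t74_flag_chi_congr {T : Type*} [Group T] (A A' : Subgroup T) (x : T)
    (h : x ∈ A ↔ x ∈ A') : t74_flag_chi A x = t74_flag_chi A' x := by
  by_cases hx : x ∈ A
  · rw [t74_flag_chi_of_mem A x hx, t74_flag_chi_of_mem A' x (h.mp hx)]
  · rw [t74_flag_chi_of_not_mem A x hx, t74_flag_chi_of_not_mem A' x (fun h' => hx (h.mpr h'))]

theorem t74_flag_chi_mul {T : Type*} [Group T] [Finite T] (A B : Subgroup T) (hAB : A ≤ B)
    (hc : Nat.card ↥B = 2 * Nat.card ↥A) (x y : T) (hx : x ∈ B) (hy : y ∈ B) :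
    t74_flag_chi A (x * y) = t74_flag_chi A x + t74_flag_chi A y := by
  have h := t74_flag_mul_mem_iff A B hAB hc x y hx hy
  by_cases hxA : x ∈ A <;> by_cases hyA : y ∈ A
  · rw [t74_flag_chi_of_mem A x hxA, t74_flag_chi_of_mem A y hyA,
      t74_flag_chi_of_mem A _ (h.mpr ⟨fun _ => hyA, fun _ => hxA⟩), add_zero]
  · rw [t74_flag_chi_of_mem A x hxA, t74_flag_chi_of_not_mem A y hyA,
      t74_flag_chi_of_not_mem A _ (fun h' => hyA ((h.mp h').mp hxA)), zero_add]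
  · rw [t74_flag_chi_of_not_mem A x hxA, t74_flag_chi_of_mem A y hyA,
      t74_flag_chi_of_not_mem A _ (fun h' => hxA ((h.mp h').mpr hyA)), add_zero]
  · rw [t74_flag_chi_of_not_mem A x hxA, t74_flag_chi_of_not_mem A y hyA,
      t74_flag_chi_of_mem A _ (h.mpr ⟨fun h' => (hxA h').elim, fun h' => (hyA h').elim⟩)]
    decide

theorem t74_flag_comm_mul {T : Type*} [Group T] (g h x : T) :
    ⁅g * h, x⁆ = ⁅g, ⁅h, x⁆⁆ * ⁅h, x⁆ * ⁅g, x⁆ := by
  simp only [commutatorElement_def]; group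

theorem t74_flag_comm_mul_central {T : Type*} [Group T] (g e z : T) (hz : g * z = z * g) :
    ⁅g, e * z⁆ = ⁅g, e⁆ := by
  have h1 : z * g⁻¹ = g⁻¹ * z := ((Commute.inv_left (show Commute g z from hz)).eq).symm
  simp only [commutatorElement_def]
  calc g * (e * z) * g⁻¹ * (e * z)⁻¹ = g * e * (z * g⁻¹) * z⁻¹ * e⁻¹ := by group
    _ = g * e * (g⁻¹ * z) * z⁻¹ * e⁻¹ := by rw [h1]
    _ = g * e * g⁻¹ * e⁻¹ := by group

theorem t74_flag_comm_of_decomp {T : Type*} [Group T] (g e z : T) (he : g * e = e * g)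
    (hz : g * z = z * g) : (e * z) * g = g * (e * z) := by
  rw [mul_assoc, ← hz, ← mul_assoc, ← he, mul_assoc]

/-- existence of an element outside a smaller subgroup -/
theorem t74_flag_exists_not_mem {T : Type*} [Group T] [Finite T] (A B : Subgroup T) (hAB : A ≤ B)
    (hc : Nat.card ↥A < Nat.card ↥B) : ∃ e ∈ B, e ∉ A := by
  by_contra hcon
  push Not at hcon
  have h1 : B ≤ A := hcon
  have h2 : A = B := le_antisymm hAB h1
  rw [h2] at hc
  exact lt_irrefl _ hc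

/-- decomposition along an index-two subgroup -/
theorem t74_flag_decomp {T : Type*} [Group T] [Finite T] (A B : Subgroup T) (hAB : A ≤ B)
    (hc : Nat.card ↥B = 2 * Nat.card ↥A) (e : T) (he : e ∈ B) (heA : e ∉ A) (y : T) (hy : y ∈ B)
    (hyA : y ∉ A) : e⁻¹ * y ∈ A := by
  rw [t74_flag_mul_mem_iff A B hAB hc e⁻¹ y (B.inv_mem he) hy]
  constructor
  · intro h; exact (heA (by simpa using A.inv_mem h)).elim
  · intro h; exact (hyA h).elim

/-- T74-FLAG -/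
theorem exists_flag_hom {T : Type*} [Group T] [Finite T] (Z1 Z2 Z3 : Subgroup T)
    (h12 : Z1 ≤ Z2) (h23 : Z2 ≤ Z3) (c1 : Nat.card ↥Z1 = 2) (c2 : Nat.card ↥Z2 = 4)
    (c3 : Nat.card ↥Z3 = 8) (hexp : ∀ z ∈ Z3, z ^ 2 = 1) (cen1 : ∀ z ∈ Z1, ∀ g : T, g * z = z * g)
    (act2 : ∀ x ∈ Z2, ∀ g : T, ⁅g, x⁆ ∈ Z1) (act3 : ∀ x ∈ Z3, ∀ g : T, ⁅g, x⁆ ∈ Z2) :
    ∃ a : T →* H2, a.ker = centralizer (Z3 : Set T) ∧
      ∀ g : T, ((a g).a = 0 ↔ g ∈ centralizer (Z2 : Set T)) := by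
  obtain ⟨e2, he2, he21⟩ := t74_flag_exists_not_mem Z1 Z2 h12 (by rw [c1, c2]; norm_num)
  obtain ⟨e3, he3, he32⟩ := t74_flag_exists_not_mem Z2 Z3 h23 (by rw [c2, c3]; norm_num)
  have hc01 : Nat.card ↥Z1 = 2 * Nat.card ↥(⊥ : Subgroup T) := by rw [Subgroup.card_bot, c1]
  have hc12 : Nat.card ↥Z2 = 2 * Nat.card ↥Z1 := by rw [c1, c2]
  have hc23 : Nat.card ↥Z3 = 2 * Nat.card ↥Z2 := by rw [c2, c3]
  have he2ne : e2 ≠ 1 := fun h => he21 (h ▸ Z1.one_mem)
  have he2sq : e2 ^ 2 = 1 := hexp e2 (h23 he2)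
  set E2 : Subgroup T := zpowers e2 with hE2
  have he2E : e2 ∈ E2 := mem_zpowers e2
  have hE2le : E2 ≤ Z2 := (zpowers_le).mpr he2
  have cE2 : Nat.card ↥E2 = 2 := by
    have : Fact (Nat.Prime 2) := ⟨Nat.prime_two⟩
    rw [hE2, Nat.card_zpowers, orderOf_eq_prime he2sq he2ne]
  have hc0E : Nat.card ↥E2 = 2 * Nat.card ↥(⊥ : Subgroup T) := by rw [Subgroup.card_bot, cE2]
  have hE2Z1 : ∀ x ∈ E2, x ∈ Z1 → x = 1 := by
    intro x hxE hx1
    by_contra hne
    have h := t74_flag_mul_mem_iff ⊥ E2 bot_le hc0E x e2 hxE he2E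
    have h1 : x * e2 ∈ (⊥ : Subgroup T) :=
      h.mpr ⟨fun h' => (hne (Subgroup.mem_bot.mp h')).elim,
        fun h' => (he2ne (Subgroup.mem_bot.mp h')).elim⟩
    rw [Subgroup.mem_bot] at h1
    have h2 : x = e2⁻¹ := eq_inv_of_mul_eq_one_left h1
    apply he21
    rw [h2] at hx1
    simpa using Z1.inv_mem hx1
  -- the key lemma for the `c` coordinate
  have hkey : ∀ g : T, ∀ y ∈ Z2, t74_flag_chi E2 ⁅g, y⁆ =
      t74_flag_chi ⊥ ⁅g, e2⁆ * t74_flag_chi Z1 y := by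
    intro g y hy
    by_cases hy1 : y ∈ Z1
    · have h1 : ⁅g, y⁆ = 1 := commutatorElement_eq_one_iff_mul_comm.mpr (cen1 y hy1 g)
      rw [h1, t74_flag_chi_of_mem E2 1 E2.one_mem, t74_flag_chi_of_mem Z1 y hy1, mul_zero]
    · have hz : e2⁻¹ * y ∈ Z1 := t74_flag_decomp Z1 Z2 h12 hc12 e2 he2 he21 y hy hy1
      have hy' : y = e2 * (e2⁻¹ * y) := by group
      have h1 : ⁅g, y⁆ = ⁅g, e2⁆ := by
        rw [hy']
        exact t74_flag_comm_mul_central g e2 _ (cen1 _ hz g)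
      rw [h1, t74_flag_chi_of_not_mem Z1 y hy1, mul_one]
      apply t74_flag_chi_congr
      constructor
      · intro h
        exact Subgroup.mem_bot.mpr (hE2Z1 _ h (act2 e2 he2 g))
      · intro h
        rw [Subgroup.mem_bot.mp h]; exact E2.one_mem
  let f : T → H2 := fun g =>
    ⟨t74_flag_chi ⊥ ⁅g, e2⁆, t74_flag_chi Z1 ⁅g, e3⁆, t74_flag_chi E2 ⁅g, e3⁆⟩
  have hfa : ∀ g, (f g).a = t74_flag_chi ⊥ ⁅g, e2⁆ := fun g => rfl
  have hfb : ∀ g, (f g).b = t74_flag_chi Z1 ⁅g, e3⁆ := fun g => rfl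
  have hfc : ∀ g, (f g).c = t74_flag_chi E2 ⁅g, e3⁆ := fun g => rfl
  have hmul : ∀ g h : T, f (g * h) = f g * f h := by
    intro g h
    have hy : ⁅h, e3⁆ ∈ Z2 := act3 e3 he3 h
    have hgy : ⁅g, ⁅h, e3⁆⁆ ∈ Z1 := act2 _ hy g
    have hg3 : ⁅g, e3⁆ ∈ Z2 := act3 e3 he3 g
    apply H2.ext'
    · rw [H2.mul_a, hfa, hfa, hfa, t74_flag_comm_mul]
      have h1 : ⁅g, ⁅h, e2⁆⁆ = 1 :=
        commutatorElement_eq_one_iff_mul_comm.mpr (cen1 _ (act2 e2 he2 h) g)
      rw [h1, one_mul, t74_flag_chi_mul ⊥ Z1 bot_le hc01 _ _ (act2 e2 he2 h) (act2 e2 he2 g),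
        add_comm]
    · rw [H2.mul_b, hfb, hfb, hfb, t74_flag_comm_mul,
        t74_flag_chi_mul Z1 Z2 h12 hc12 _ _ (Z2.mul_mem (h12 hgy) hy) hg3,
        t74_flag_chi_mul Z1 Z2 h12 hc12 _ _ (h12 hgy) hy, t74_flag_chi_of_mem Z1 _ hgy, zero_add,
        add_comm]
    · rw [H2.mul_c, hfc, hfc, hfc, hfa, hfb, t74_flag_comm_mul,
        t74_flag_chi_mul E2 Z2 hE2le (by rw [cE2, c2]) _ _ (Z2.mul_mem (h12 hgy) hy) hg3,
        t74_flag_chi_mul E2 Z2 hE2le (by rw [cE2, c2]) _ _ (h12 hgy) hy, hkey g _ hy]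
      ring
  -- centralizers
  have hcent2 : ∀ g : T, g ∈ centralizer (Z2 : Set T) ↔ ⁅g, e2⁆ = 1 := by
    intro g
    rw [commutatorElement_eq_one_iff_mul_comm, mem_centralizer_iff]
    constructor
    · intro h; exact (h e2 he2).symm
    · intro h y hy
      by_cases hy1 : y ∈ Z1
      · exact (cen1 y hy1 g).symm
      · have hz : e2⁻¹ * y ∈ Z1 := t74_flag_decomp Z1 Z2 h12 hc12 e2 he2 he21 y hy hy1
        have := t74_flag_comm_of_decomp g e2 (e2⁻¹ * y) h (cen1 _ hz g)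
        rwa [mul_inv_cancel_left] at this
  have hcent3 : ∀ g : T, g ∈ centralizer (Z3 : Set T) ↔ ⁅g, e2⁆ = 1 ∧ ⁅g, e3⁆ = 1 := by
    intro g
    constructor
    · intro h
      rw [mem_centralizer_iff] at h
      exact ⟨commutatorElement_eq_one_iff_mul_comm.mpr (h e2 (h23 he2)).symm,
        commutatorElement_eq_one_iff_mul_comm.mpr (h e3 he3).symm⟩
    · rintro ⟨h2, h3⟩
      have hg2 := (hcent2 g).mpr h2
      rw [mem_centralizer_iff] at hg2 ⊢
      rw [commutatorElement_eq_one_iff_mul_comm] at h3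
      intro x hx
      by_cases hx2 : x ∈ Z2
      · exact hg2 x hx2
      · have hz : e3⁻¹ * x ∈ Z2 := t74_flag_decomp Z2 Z3 h23 hc23 e3 he3 he32 x hx hx2
        have := t74_flag_comm_of_decomp g e3 (e3⁻¹ * x) h3 (hg2 _ hz).symm
        rwa [mul_inv_cancel_left] at this
  refine ⟨MonoidHom.mk' f hmul, ?_, ?_⟩
  · ext g
    rw [MonoidHom.mem_ker, MonoidHom.mk'_apply, hcent3]
    constructor
    · intro h
      have ha : (f g).a = 0 := by rw [h]; rfl
      have hb : (f g).b = 0 := by rw [h]; rfl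
      have hc : (f g).c = 0 := by rw [h]; rfl
      rw [hfa, t74_flag_chi_eq_zero_iff, Subgroup.mem_bot] at ha
      rw [hfb, t74_flag_chi_eq_zero_iff] at hb
      rw [hfc, t74_flag_chi_eq_zero_iff] at hc
      exact ⟨ha, hE2Z1 _ hc hb⟩
    · rintro ⟨h2, h3⟩
      apply H2.ext'
      · rw [hfa, h2]; exact t74_flag_chi_of_mem _ _ (Subgroup.one_mem _)
      · rw [hfb, h3]; exact t74_flag_chi_of_mem _ _ (Subgroup.one_mem _)
      · rw [hfc, h3]; exact t74_flag_chi_of_mem _ _ (Subgroup.one_mem _)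
  · intro g
    rw [MonoidHom.mk'_apply, hfa, t74_flag_chi_eq_zero_iff, Subgroup.mem_bot, hcent2]

end Cfsg.Agent.Helper16.T74
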