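import Mathlib
import Cfsg.Agent.Lib.Helper16.T74Defs
import Cfsg.Agent.Lib.T74.T74BFORM
import Cfsg.Agent.Lib.T74.T74F1
import Cfsg.Agent.Lib.T74.T74CORE

/-!
# T74-GAMMA2 core (helper4): `bform_gen_comm_z` with the function `μ` of piece MU as a hypothesis
-/

namespace Cfsg.Agent.Helper16.T74

open scoped commutatorElement
open Subgroup

/-- `z` is central in `H2`. -/
theorem t74_gamma2_z_central (x : H2) : H2.z * x = x * H2.z := by
  revert x; decide

/-- Elements of `H2` with `a = 0` square to `1`. -/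
theorem t74_gamma2_sq_one (x : H2) (hx : x.a = 0) : x * x = 1 := by
  revert x; decide

/-- The map `c ↦ a c.out` is a bijection `T ⧸ W → H2`. -/
theorem t74_gamma2_bij {T : Type*} [Group T] {W : Subgroup T}
    (a : T →* H2) (hker : a.ker = W) (hsurj : Function.Surjective a) :
    Function.Bijective (fun c : T ⧸ W => a c.out) := by
  constructor
  · intro c c' h
    have h1 : a (c.out⁻¹ * c'.out) = 1 := by
      simp only [map_mul, map_inv]
      have : a c.out = a c'.out := h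
      rw [this]; simp
    have h2 : c.out⁻¹ * c'.out ∈ W := by
      have : c.out⁻¹ * c'.out ∈ a.ker := MonoidHom.mem_ker.2 h1
      exact hker ▸ this
    have h3 : (QuotientGroup.mk c.out : T ⧸ W) = QuotientGroup.mk c'.out :=
      QuotientGroup.eq.2 h2
    rwa [QuotientGroup.out_eq', QuotientGroup.out_eq'] at h3
  · intro h
    obtain ⟨t, rfl⟩ := hsurj h
    refine ⟨(QuotientGroup.mk t : T ⧸ W), ?_⟩
    have h2 : t⁻¹ * (QuotientGroup.mk t : T ⧸ W).out ∈ W := by
      apply QuotientGroup.eq.1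
      rw [QuotientGroup.out_eq']
    have h3 : a (t⁻¹ * (QuotientGroup.mk t : T ⧸ W).out) = 1 := by
      apply MonoidHom.mem_ker.1
      exact hker.symm ▸ h2
    simp only [map_mul, map_inv] at h3
    show a (QuotientGroup.mk t : T ⧸ W).out = a t
    have := congrArg (fun y => a t * y) h3
    simpa using this

/-- Core of T74-GAMMA2: with `μ` given. -/
theorem t74_gamma2_core {T : Type*} [Group T] [Finite T] {W Z1 Z2 Z3 : Subgroup T}
    (S : Setting W Z1 Z2 Z3) [Fintype (T ⧸ W)] (a : T →* H2) (hker : a.ker = W)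
    (hsurj : Function.Surjective a)
    (ha0 : ∀ g : T, ((a g).a = 0 ↔ g ∈ centralizer (Z2 : Set T)))
    (w0 : T) (hw0 : w0 ∈ W)
    (hsum : ∑ c : T ⧸ W, bform Z2 w0 (c.out * w0 * c.out⁻¹) = 0)
    (zt : T) (hzt : a zt = H2.z)
    (μ : H2 → ZMod 2) (hμ : ∀ t : T, μ (a t) = bform Z2 w0 (t * w0 * t⁻¹)) :
    ∀ g h : T, bform Z2 (g * w0 * g⁻¹) ⁅h * w0 * h⁻¹, zt⁆ = 0 := by
  obtain ⟨hadd, hsymm, -, -, hconj, hinvv⟩ := bform_props S
  have hnW := S.nW
  have hcW : ∀ t : T, t * w0 * t⁻¹ ∈ W := fun t => hnW.conj_mem w0 hw0 t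
  -- `μ` is inversion invariant
  have hinv : ∀ x : H2, μ x⁻¹ = μ x := by
    intro x
    obtain ⟨t, rfl⟩ := hsurj x
    rw [← map_inv, hμ, hμ]
    have h1 := hconj t w0 (t⁻¹ * w0 * t⁻¹⁻¹)
    have e : t * (t⁻¹ * w0 * t⁻¹⁻¹) * t⁻¹ = w0 := by group
    rw [e] at h1
    rw [← h1, hsymm _ (hcW t) _ hw0]
  -- `μ` vanishes on `a = 0`
  have hK : ∀ x : H2, x.a = 0 → μ x = 0 := by
    intro x hx
    obtain ⟨t, rfl⟩ := hsurj x
    rw [hμ]
    have ht : t ∈ centralizer (Z2 : Set T) := (ha0 t).1 hx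
    have ht2 : t ^ 2 ∈ W := by
      have : t ^ 2 ∈ a.ker := by
        apply MonoidHom.mem_ker.2
        rw [pow_two, map_mul]
        exact t74_gamma2_sq_one _ hx
      exact hker ▸ this
    exact bform_conj_self S t ht ht2 w0 hw0
  -- the sum of `μ` vanishes
  have hsum' : ∑ x : H2, μ x = 0 := by
    have hb := t74_gamma2_bij a hker hsurj
    rw [← hsum]
    rw [← Function.Bijective.sum_comp hb μ]
    apply Finset.sum_congr rfl
    intro c _
    exact hμ c.out
  have hcore := h2_core μ hinv hK hsum'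
  intro g h
  set u := g * w0 * g⁻¹ with hu
  set v := h * w0 * h⁻¹ with hv
  have huW : u ∈ W := hcW g
  have hvW : v ∈ W := hcW h
  have hzvW : zt * v * zt⁻¹ ∈ W := hnW.conj_mem v hvW zt
  have e1 : ⁅v, zt⁆ = v * (zt * v * zt⁻¹)⁻¹ := by
    rw [commutatorElement_def]; group
  rw [e1, hadd u huW v hvW _ (W.inv_mem hzvW), hinvv u huW _ hzvW]
  -- first term
  have t1 : bform Z2 u v = μ (a (g⁻¹ * h)) := by
    rw [hμ]
    have h1 := hconj g⁻¹ u v
    rw [← h1]
    congr 1
    · rw [hu]; group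
    · rw [hv]; group
  have t2 : bform Z2 u (zt * v * zt⁻¹) = μ (a (g⁻¹ * h) * H2.z) := by
    have h3 : a (g⁻¹ * h) * H2.z = a (g⁻¹ * zt * h) := by
      simp only [map_mul, hzt]
      rw [mul_assoc, mul_assoc, t74_gamma2_z_central]
    rw [h3, hμ]
    have h1 := hconj g⁻¹ u (zt * v * zt⁻¹)
    rw [← h1]
    congr 1
    · rw [hu]; group
    · rw [hv]; group
  rw [t1, t2, hcore]
  exact t74_core_add_self _

end Cfsg.Agent.Helper16.T74
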