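import Mathlib
import Cfsg.Agent.Lib.Helper16.T74Defs
import Cfsg.Agent.Lib.T74.T74BFORM
import Cfsg.Agent.Lib.T74.T74GAMMA2Core

/-!
# T74-GAMMA2 (helper4): `bform_gen_comm_z`

The function `μ` of piece MU is rebuilt locally (`t74_gamma2_mu`), so this file does not wait for
`T74MU.lean`.
-/

namespace Cfsg.Agent.Helper16.T74

open scoped commutatorElement
open Subgroup

/-- Local version of piece MU: a function `μ` on `H2` with `μ (a t) = bform Z2 w0 (t w0 t⁻¹)`. -/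
theorem t74_gamma2_mu {T : Type*} [Group T] [Finite T] {W Z1 Z2 Z3 : Subgroup T}
    (S : Setting W Z1 Z2 Z3) (a : T →* H2) (hker : a.ker = W) (hsurj : Function.Surjective a)
    (w0 : T) (hw0 : w0 ∈ W) :
    ∃ μ : H2 → ZMod 2, ∀ t : T, μ (a t) = bform Z2 w0 (t * w0 * t⁻¹) := by
  obtain ⟨hadd, -, hz3, -, -, -⟩ := bform_props S
  have hnW := S.nW
  have hn3 := S.n3
  refine ⟨fun x => bform Z2 w0 (Function.surjInv hsurj x * w0 * (Function.surjInv hsurj x)⁻¹), ?_⟩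
  intro t
  show bform Z2 w0 (Function.surjInv hsurj (a t) * w0 * (Function.surjInv hsurj (a t))⁻¹) = _
  set t' := Function.surjInv hsurj (a t) with ht'
  have hat : a t' = a t := Function.surjInv_eq hsurj (a t)
  have hn : t⁻¹ * t' ∈ W := by
    have : t⁻¹ * t' ∈ a.ker := by
      apply MonoidHom.mem_ker.2
      rw [map_mul, map_inv, hat]; simp
    exact hker ▸ this
  have hk : ⁅w0⁻¹, t⁻¹ * t'⁆ ∈ Z3 := S.comm _ (W.inv_mem hw0) _ hn
  have hk' : t * ⁅w0⁻¹, t⁻¹ * t'⁆ * t⁻¹ ∈ Z3 := hn3.conj_mem _ hk t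
  have e : t' * w0 * t'⁻¹ = (t * w0 * t⁻¹) * (t * ⁅w0⁻¹, t⁻¹ * t'⁆ * t⁻¹) := by
    rw [commutatorElement_def]; group
  rw [e, hadd w0 hw0 _ (hnW.conj_mem w0 hw0 t) _ (S.h3W hk'), hz3 w0 hw0 _ hk', add_zero]

/-- T74-GAMMA2 -/
theorem bform_gen_comm_z {T : Type*} [Group T] [Finite T] {W Z1 Z2 Z3 : Subgroup T}
    (S : Setting W Z1 Z2 Z3) [Fintype (T ⧸ W)] (a : T →* H2) (hker : a.ker = W)
    (hsurj : Function.Surjective a)
    (ha0 : ∀ g : T, ((a g).a = 0 ↔ g ∈ centralizer (Z2 : Set T)))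
    (w0 : T) (hw0 : w0 ∈ W)
    (hsum : ∑ c : T ⧸ W, bform Z2 w0 (c.out * w0 * c.out⁻¹) = 0)
    (zt : T) (hzt : a zt = H2.z) :
    ∀ g h : T, bform Z2 (g * w0 * g⁻¹) ⁅h * w0 * h⁻¹, zt⁆ = 0 := by
  obtain ⟨μ, hμ⟩ := t74_gamma2_mu S a hker hsurj w0 hw0
  exact t74_gamma2_core S a hker hsurj ha0 w0 hw0 hsum zt hzt μ hμ

end Cfsg.Agent.Helper16.T74
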