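import Mathlib
import Cfsg.Agent.Lib.Helper16.T74Defs
import Cfsg.Agent.Lib.T74.T74BFORM

/-!
# S3174 piece T74-GAMMA3: from the generators `g w0 g⁻¹` to all of `W`
-/

namespace Cfsg.Agent.Helper16.T74

open scoped commutatorElement
open Subgroup

/-- T74-GAMMA3 -/
theorem bform_comm_z {T : Type*} [Group T] [Finite T] {W Z1 Z2 Z3 : Subgroup T}
    (S : Setting W Z1 Z2 Z3) (w0 : T) (hw0 : w0 ∈ W)
    (hcyc : W ≤ closure ({y : T | ∃ g : T, y = g * w0 * g⁻¹} ∪ (Z3 : Set T)))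
    (zt : T)
    (hgen : ∀ g h : T, bform Z2 (g * w0 * g⁻¹) ⁅h * w0 * h⁻¹, zt⁆ = 0) :
    ∀ u ∈ W, ∀ v ∈ W, bform Z2 u ⁅v, zt⁆ = 0 := by
  obtain ⟨hadd, hsymm, hZ3, -, -, hneg⟩ := bform_props S
  have nW := S.nW
  have n3 := S.n3
  -- commutators with `zt` stay in `W`, resp. `Z3`
  have hcW : ∀ v ∈ W, ⁅v, zt⁆ ∈ W := by
    intro v hv
    have e : ⁅v, zt⁆ = v * (zt * v⁻¹ * zt⁻¹) := by
      simp [commutatorElement_def, mul_assoc]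
    rw [e]
    exact W.mul_mem hv (nW.conj_mem _ (W.inv_mem hv) zt)
  have hc3 : ∀ k ∈ Z3, ⁅k, zt⁆ ∈ Z3 := by
    intro k hk
    have e : ⁅k, zt⁆ = k * (zt * k⁻¹ * zt⁻¹) := by
      simp [commutatorElement_def, mul_assoc]
    rw [e]
    exact Z3.mul_mem hk (n3.conj_mem _ (Z3.inv_mem hk) zt)
  have hone : ∀ u ∈ W, bform Z2 u ⁅(1 : T), zt⁆ = 0 := by
    intro u hu
    rw [commutatorElement_one_left]
    exact hZ3 u hu 1 Z3.one_mem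
  -- additivity in `v`
  have hmul : ∀ u ∈ W, ∀ v ∈ W, ∀ v' ∈ W,
      bform Z2 u ⁅v * v', zt⁆ = bform Z2 u ⁅v', zt⁆ + bform Z2 u ⁅v, zt⁆ := by
    intro u hu v hv v' hv'
    have e : ⁅v * v', zt⁆ = (⁅v, ⁅v', zt⁆⁆ * ⁅v', zt⁆) * ⁅v, zt⁆ := by
      simp only [commutatorElement_def]
      group
    have h1 : ⁅v, ⁅v', zt⁆⁆ ∈ Z3 := S.comm v hv _ (hcW v' hv')
    rw [e, hadd u hu _ (W.mul_mem (S.h3W h1) (hcW v' hv')) _ (hcW v hv),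
      hadd u hu _ (S.h3W h1) _ (hcW v' hv'), hZ3 u hu _ h1, zero_add]
  -- Step 1: `u` a conjugate of `w0`, `v` arbitrary
  have step1 : ∀ g : T, ∀ v ∈ W, bform Z2 (g * w0 * g⁻¹) ⁅v, zt⁆ = 0 := by
    intro g v hv
    have hu : g * w0 * g⁻¹ ∈ W := nW.conj_mem _ hw0 g
    have hv' := hcyc hv
    refine (Subgroup.closure_induction
      (p := fun x _ => x ∈ W ∧ bform Z2 (g * w0 * g⁻¹) ⁅x, zt⁆ = 0) ?_ ?_ ?_ ?_ hv').2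
    · rintro x (⟨h, rfl⟩ | hx)
      · exact ⟨nW.conj_mem _ hw0 h, hgen g h⟩
      · exact ⟨S.h3W hx, hZ3 _ hu _ (hc3 x hx)⟩
    · exact ⟨W.one_mem, hone _ hu⟩
    · rintro x y _ _ ⟨hx, hx0⟩ ⟨hy, hy0⟩
      exact ⟨W.mul_mem hx hy, by rw [hmul _ hu x hx y hy, hx0, hy0, add_zero]⟩
    · rintro x _ ⟨hx, hx0⟩
      refine ⟨W.inv_mem hx, ?_⟩
      have h1 := hmul _ hu x hx x⁻¹ (W.inv_mem hx)
      rw [mul_inv_cancel, hone _ hu, hx0, add_zero] at h1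
      exact h1.symm
  -- Step 2: `u` arbitrary
  intro u hu v hv
  have hc : ⁅v, zt⁆ ∈ W := hcW v hv
  have hu' := hcyc hu
  refine (Subgroup.closure_induction
    (p := fun x _ => x ∈ W ∧ bform Z2 x ⁅v, zt⁆ = 0) ?_ ?_ ?_ ?_ hu').2
  · rintro x (⟨g, rfl⟩ | hx)
    · exact ⟨nW.conj_mem _ hw0 g, step1 g v hv⟩
    · exact ⟨S.h3W hx, by rw [hsymm x (S.h3W hx) _ hc]; exact hZ3 _ hc x hx⟩
  · exact ⟨W.one_mem, by rw [hsymm 1 W.one_mem _ hc]; exact hZ3 _ hc 1 Z3.one_mem⟩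
  · rintro x y _ _ ⟨hx, hx0⟩ ⟨hy, hy0⟩
    refine ⟨W.mul_mem hx hy, ?_⟩
    rw [hsymm _ (W.mul_mem hx hy) _ hc, hadd _ hc x hx y hy, hsymm _ hc x hx, hsymm _ hc y hy,
      hx0, hy0, add_zero]
  · rintro x _ ⟨hx, hx0⟩
    refine ⟨W.inv_mem hx, ?_⟩
    rw [hsymm _ (W.inv_mem hx) _ hc, hneg _ hc x hx, hsymm _ hc x hx, hx0]

end Cfsg.Agent.Helper16.T74
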