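import Mathlib
import Cfsg.Agent.Lib.Helper16.T74Defs

/-!
# S3174 piece T74-HEISDIH: the Heisenberg group over `ZMod 2` is dihedral of order 8
-/

namespace Cfsg.Agent.Helper16.T74

open scoped commutatorElement
open Subgroup

/-- `r i ↦ (1,1,0)^i`, `sr i ↦ (1,0,0) * (1,1,0)^i`. -/
def t74_heisdih_fun : DihedralGroup 4 → H2
  | .r i => (⟨1, 1, 0⟩ : H2) ^ i.val
  | .sr i => (⟨1, 0, 0⟩ : H2) * (⟨1, 1, 0⟩ : H2) ^ i.val

theorem t74_heisdih_map_mul :
    ∀ x y : DihedralGroup 4, t74_heisdih_fun (x * y) = t74_heisdih_fun x * t74_heisdih_fun y := by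
  decide

theorem t74_heisdih_bij : Function.Bijective t74_heisdih_fun := by
  decide

/-- T74-HEISDIH -/
theorem h2_equiv_dihedral : Nonempty (H2 ≃* DihedralGroup 4) :=
  ⟨(MulEquiv.ofBijective
    (MonoidHom.mk' t74_heisdih_fun t74_heisdih_map_mul) t74_heisdih_bij).symm⟩

end Cfsg.Agent.Helper16.T74
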