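import Mathlib
import Cfsg.Agent.Lib.Helper16.T74Defs
import Cfsg.Agent.Lib.T74.T74BFORM

/-!
# S3174 piece T74-MU (helper11): the function `μ` on `H2` with `μ (a t) = bform Z2 w0 (t w0 t⁻¹)`
-/

namespace Cfsg.Agent.Helper16.T74

open scoped commutatorElement
open Subgroup

/-- well-definedness: `bform Z2 w0 (t w0 t⁻¹)` only depends on the coset `tW` -/
theorem t74_mu_welldef {T : Type*} [Group T] [Finite T] {W Z1 Z2 Z3 : Subgroup T}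
    (S : Setting W Z1 Z2 Z3) (w0 : T) (hw0 : w0 ∈ W) (t0 t : T) (hw : t0⁻¹ * t ∈ W) :
    bform Z2 w0 (t * w0 * t⁻¹) = bform Z2 w0 (t0 * w0 * t0⁻¹) := by
  obtain ⟨hadd, -, hZ3, -, -, -⟩ := bform_props S
  haveI := S.nW
  haveI := S.n3
  have hk : ⁅t0⁻¹ * t, w0⁆ ∈ Z3 := S.comm _ hw _ hw0
  have hA3 : t0 * ⁅t0⁻¹ * t, w0⁆ * t0⁻¹ ∈ Z3 := S.n3.conj_mem _ hk t0
  have hA : t0 * ⁅t0⁻¹ * t, w0⁆ * t0⁻¹ ∈ W := S.h3W hA3
  have hB : t0 * w0 * t0⁻¹ ∈ W := S.nW.conj_mem _ hw0 t0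
  have heq : t * w0 * t⁻¹ = (t0 * ⁅t0⁻¹ * t, w0⁆ * t0⁻¹) * (t0 * w0 * t0⁻¹) := by
    rw [commutatorElement_def]
    group
  rw [heq, hadd w0 hw0 _ hA _ hB, hZ3 w0 hw0 _ hA3, zero_add]

theorem exists_mu {T : Type*} [Group T] [Finite T] {W Z1 Z2 Z3 : Subgroup T}
    (S : Setting W Z1 Z2 Z3) (a : T →* H2) (hker : a.ker = W) (hsurj : Function.Surjective a)
    (w0 : T) (hw0 : w0 ∈ W) :
    ∃ μ : H2 → ZMod 2, ∀ t : T, μ (a t) = bform Z2 w0 (t * w0 * t⁻¹) := by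
  classical
  refine ⟨fun h => bform Z2 w0 (Classical.choose (hsurj h) * w0 * (Classical.choose (hsurj h))⁻¹),
    ?_⟩
  intro t
  have h0 : a (Classical.choose (hsurj (a t))) = a t := Classical.choose_spec (hsurj (a t))
  have hw : (Classical.choose (hsurj (a t)))⁻¹ * t ∈ W := by
    rw [← hker, MonoidHom.mem_ker, map_mul, map_inv, h0, inv_mul_cancel]
  exact (t74_mu_welldef S w0 hw0 _ t hw).symm

end Cfsg.Agent.Helper16.T74
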