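import Mathlib
import Cfsg.Agent.Lib.Helper16.T74Defs
import Cfsg.Agent.Lib.Helper19.PGroupBasic

/-!
# S3174 piece T74-NLE
-/

namespace Cfsg.Agent.Helper16.T74

open scoped commutatorElement
open Subgroup

/-- `|N| = |N ∩ ker f| * |f(N)|` -/
theorem t74_nle_card_map {T T' : Type*} [Group T] [Group T'] (f : T →* T') (N : Subgroup T) :
    Nat.card ↥(f.ker ⊓ N : Subgroup T) * Nat.card ↥(N.map f) = Nat.card ↥N := by
  have h1 := Subgroup.card_mul_index (f.domRestrict N).ker
  rw [Subgroup.index_ker, MonoidHom.domRestrict_range, MonoidHom.ker_domRestrict] at h1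
  have h2 : Nat.card (f.ker.subgroupOf N) = Nat.card ↥(f.ker ⊓ N : Subgroup T) := by
    rw [← Subgroup.subgroupOf_map_subtype,
      Subgroup.card_map_of_injective (Subgroup.subtype_injective _)]
  rw [h2] at h1
  exact h1

/-- T74-NLE -/
theorem normal_le_ucs {p : ℕ} [Fact p.Prime] {T : Type*} [Group T] [Finite T] (hT : IsPGroup p T)
    (N : Subgroup T) [N.Normal] (j : ℕ) (hN : Nat.card ↥N ≤ p ^ j) :
    N ≤ Subgroup.upperCentralSeries T j := by
  induction j generalizing T with
  | zero =>
    rw [pow_zero] at hN
    have : N = ⊥ := Subgroup.eq_bot_of_card_le N hN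
    rw [this]
    exact bot_le
  | succ j ih =>
    by_cases hNb : N = ⊥
    · rw [hNb]; exact bot_le
    · have hp : p.Prime := Fact.out
      have hmeet := Cfsg.Agent.Helper19.normal_inf_center_ne_bot hT N hNb
      -- `|N ∩ Z(T)| ≥ p`
      have hge : p ≤ Nat.card ↥(N ⊓ center T : Subgroup T) := by
        obtain ⟨k, hk⟩ := (hT.to_subgroup (N ⊓ center T)).exists_card_eq
        have hk0 : k ≠ 0 := by
          intro h0
          rw [h0, pow_zero] at hk
          exact hmeet (Subgroup.eq_bot_of_card_le _ (le_of_eq hk))
        rw [hk]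
        calc p = p ^ 1 := (pow_one p).symm
          _ ≤ p ^ k := Nat.pow_le_pow_right hp.pos (Nat.one_le_iff_ne_zero.mpr hk0)
      -- the image in `T / Z(T)`
      have hcard := t74_nle_card_map (QuotientGroup.mk' (center T)) N
      rw [QuotientGroup.ker_mk', inf_comm] at hcard
      have hbar : Nat.card ↥(N.map (QuotientGroup.mk' (center T))) ≤ p ^ j := by
        have h1 : p * Nat.card ↥(N.map (QuotientGroup.mk' (center T))) ≤ p ^ j * p := by
          calc p * Nat.card ↥(N.map (QuotientGroup.mk' (center T)))
              ≤ Nat.card ↥(N ⊓ center T : Subgroup T) *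
                  Nat.card ↥(N.map (QuotientGroup.mk' (center T))) :=
                Nat.mul_le_mul_right _ hge
            _ = Nat.card ↥N := hcard
            _ ≤ p ^ (j + 1) := hN
            _ = p ^ j * p := pow_succ p j
        rw [mul_comm] at h1
        exact Nat.le_of_mul_le_mul_right h1 hp.pos
      have hnorm : (N.map (QuotientGroup.mk' (center T))).Normal :=
        Subgroup.Normal.map inferInstance _ (QuotientGroup.mk'_surjective _)
      have hT' : IsPGroup p (T ⧸ center T) := hT.to_quotient (center T)
      have hih := @ih (T ⧸ center T) _ _ hT' (N.map (QuotientGroup.mk' (center T))) hnorm hbar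
      rw [← Subgroup.comap_upperCentralSeries_quotient_center]
      intro x hx
      rw [Subgroup.mem_comap]
      exact hih (Subgroup.mem_map_of_mem _ hx)

end Cfsg.Agent.Helper16.T74
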