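import Mathlib
import Cfsg.Agent.Lib.Helper16.T74Defs

/-!
# S3174 piece T74-QH2: a homomorphism onto `H2` from index 8.
-/

namespace Cfsg.Agent.Helper16.T74

open scoped commutatorElement
open Subgroup

theorem t74_qh2_card : Nat.card H2 = 8 := by
  rw [Nat.card_eq_fintype_card]
  rfl

/-- T74-QH2 -/
theorem quotient_equiv_h2 {T : Type*} [Group T] [Finite T] (W : Subgroup T) [W.Normal]
    (a : T →* H2) (hker : a.ker = W) (hidx : W.index = 8) :
    Function.Surjective a ∧ Nonempty (T ⧸ W ≃* H2) := by
  have h1 : Nat.card ↥a.range = 8 := by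
    rw [← Nat.card_congr (QuotientGroup.quotientKerEquivRange a).toEquiv]
    have : Nat.card (T ⧸ a.ker) = a.ker.index := rfl
    rw [this, hker, hidx]
  have h2 : a.range = ⊤ := by
    rw [← Subgroup.card_eq_iff_eq_top, h1, t74_qh2_card]
  have hsurj : Function.Surjective a := MonoidHom.range_eq_top.1 h2
  refine ⟨hsurj, ⟨?_⟩⟩
  exact (QuotientGroup.quotientMulEquivOfEq hker).symm.trans
    (QuotientGroup.quotientKerEquivOfSurjective a hsurj)

end Cfsg.Agent.Helper16.T74
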