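import Mathlib
import Cfsg.Agent.Lib.Helper16.T74Defs

/-!
# S3174 piece T74-UCS
-/

namespace Cfsg.Agent.Helper16.T74

open scoped commutatorElement
open Subgroup

/-- T74-UCS -/
theorem ucs_cards {T : Type*} [Group T] [Finite T] (hT : IsPGroup 2 T)
    (hb : Nat.card ↥(Subgroup.upperCentralSeries T 4) = 16) (ha : 16 < Nat.card T) :
    Nat.card ↥(Subgroup.upperCentralSeries T 1) = 2 ∧ Nat.card ↥(Subgroup.upperCentralSeries T 2) = 4 ∧
      Nat.card ↥(Subgroup.upperCentralSeries T 3) = 8 := by
  have hp2 : Fact (Nat.Prime 2) := ⟨Nat.prime_two⟩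
  have hnil : Group.IsNilpotent T := hT.isNilpotent
  have hne_top : ∀ i, i ≤ 4 → Subgroup.upperCentralSeries T i ≠ ⊤ := by
    intro i hi htop
    have hle : Subgroup.upperCentralSeries T i ≤ Subgroup.upperCentralSeries T 4 :=
      Subgroup.upperCentralSeries_mono T hi
    rw [htop] at hle
    have h1 : Nat.card (⊤ : Subgroup T) ≤ Nat.card (Subgroup.upperCentralSeries T 4) :=
      Subgroup.card_le_of_le hle
    rw [Subgroup.card_top, hb] at h1
    omega
  have hlt : ∀ i, i < 4 → Nat.card (Subgroup.upperCentralSeries T i) <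
      Nat.card (Subgroup.upperCentralSeries T (i + 1)) := by
    intro i hi
    have hle : Subgroup.upperCentralSeries T i ≤ Subgroup.upperCentralSeries T (i + 1) :=
      Subgroup.upperCentralSeries_mono T (Nat.le_succ i)
    have hne : Subgroup.upperCentralSeries T i ≠ Subgroup.upperCentralSeries T (i + 1) :=
      fun h => hne_top i (by omega) (Subgroup.upperCentralSeries.eq_top (by omega) h)
    rcases Nat.lt_or_ge (Nat.card (Subgroup.upperCentralSeries T i))
      (Nat.card (Subgroup.upperCentralSeries T (i + 1))) with h | h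
    · exact h
    · exact absurd (Subgroup.eq_of_le_of_card_ge hle h) hne
  obtain ⟨a, ha1⟩ := (hT.to_subgroup (Subgroup.upperCentralSeries T 1)).exists_card_eq
  obtain ⟨b, hb1⟩ := (hT.to_subgroup (Subgroup.upperCentralSeries T 2)).exists_card_eq
  obtain ⟨c, hc1⟩ := (hT.to_subgroup (Subgroup.upperCentralSeries T 3)).exists_card_eq
  have h0 : Nat.card (Subgroup.upperCentralSeries T 0) = 1 := by
    rw [Subgroup.upperCentralSeries_zero, Subgroup.card_bot]
  have l0 := hlt 0 (by omega)
  have l1 := hlt 1 (by omega)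
  have l2 := hlt 2 (by omega)
  have l3 := hlt 3 (by omega)
  rw [h0, zero_add, ha1] at l0
  rw [ha1, show 1 + 1 = 2 from rfl, hb1] at l1
  rw [hb1, show 2 + 1 = 3 from rfl, hc1] at l2
  rw [hc1, show 3 + 1 = 4 from rfl, hb, show (16 : ℕ) = 2 ^ 4 from rfl] at l3
  have e0 : 0 < a := by
    rcases Nat.eq_zero_or_pos a with h | h
    · rw [h] at l0; simp at l0
    · exact h
  have e1 : a < b := (Nat.pow_lt_pow_iff_right (by norm_num : 1 < 2)).mp l1
  have e2 : b < c := (Nat.pow_lt_pow_iff_right (by norm_num : 1 < 2)).mp l2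
  have e3 : c < 4 := (Nat.pow_lt_pow_iff_right (by norm_num : 1 < 2)).mp l3
  have ea : a = 1 := by omega
  have eb : b = 2 := by omega
  have ec : c = 3 := by omega
  rw [ha1, hb1, hc1, ea, eb, ec]
  norm_num

end Cfsg.Agent.Helper16.T74
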