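import Mathlib
import Cfsg.Agent.Lib.Helper16.T74Defs

/-!
# S3174 piece T74-YCEN: `Y = ⟨[v, zt] | v ∈ W⟩ Z₃ ≤ W` and `[W, Y] ≤ Z₂` from the vanishing of `bform`
-/

namespace Cfsg.Agent.Helper16.T74

open scoped commutatorElement
open Subgroup

theorem t74_ycen_conj {T : Type*} [Group T] {W Z1 Z2 Z3 : Subgroup T}
    (S : Setting W Z1 Z2 Z3) {y k : T} (hy : y ∈ W) (hk : k ∈ Z3) : y * k * y⁻¹ = k := by
  have h1 : y ∈ Subgroup.centralizer (Z3 : Set T) := S.hWc ▸ hy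
  have h2 : k * y = y * k := (Subgroup.mem_centralizer_iff.1 h1) k hk
  rw [← h2, mul_inv_cancel_right]

theorem t74_ycen_comm_mem {T : Type*} [Group T] {W : Subgroup T} (hW : W.Normal) {v : T}
    (hv : v ∈ W) (g : T) : ⁅v, g⁆ ∈ W := by
  have h : ⁅v, g⁆ = v * (g * v⁻¹ * g⁻¹) := by
    rw [commutatorElement_def]; group
  rw [h]
  exact W.mul_mem hv (hW.conj_mem _ (W.inv_mem hv) g)

/-- for `w ∈ W` the elements `y ∈ W` with `⁅w, y⁆ ∈ Z₂` form a subgroup. -/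
def t74_ycen_K {T : Type*} [Group T] {W Z1 Z2 Z3 : Subgroup T}
    (S : Setting W Z1 Z2 Z3) (w : T) (hw : w ∈ W) : Subgroup T where
  carrier := {y | y ∈ W ∧ ⁅w, y⁆ ∈ Z2}
  one_mem' := by
    refine ⟨W.one_mem, ?_⟩
    rw [commutatorElement_def]
    simp [Z2.one_mem]
  mul_mem' := by
    rintro y y' ⟨hy, hy2⟩ ⟨hy', hy2'⟩
    refine ⟨W.mul_mem hy hy', ?_⟩
    have h : ⁅w, y * y'⁆ = ⁅w, y⁆ * (y * ⁅w, y'⁆ * y⁻¹) := by
      simp only [commutatorElement_def]; group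
    rw [h, t74_ycen_conj S hy (S.h23 hy2')]
    exact Z2.mul_mem hy2 hy2'
  inv_mem' := by
    rintro y ⟨hy, hy2⟩
    refine ⟨W.inv_mem hy, ?_⟩
    have h : ⁅w, y⁻¹⁆ = y⁻¹ * ⁅w, y⁆⁻¹ * (y⁻¹)⁻¹ := by
      simp only [commutatorElement_def]; group
    rw [h, t74_ycen_conj S (W.inv_mem hy) (Z3.inv_mem (S.h23 hy2))]
    exact Z2.inv_mem hy2

/-- T74-YCEN -/
theorem Y_central_mod {T : Type*} [Group T] [Finite T] {W Z1 Z2 Z3 : Subgroup T}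
    (S : Setting W Z1 Z2 Z3) (zt : T)
    (hγ : ∀ u ∈ W, ∀ v ∈ W, bform Z2 u ⁅v, zt⁆ = 0) :
    closure {y : T | ∃ v ∈ W, y = ⁅v, zt⁆} ⊔ Z3 ≤ W ∧
      ∀ y ∈ closure {y : T | ∃ v ∈ W, y = ⁅v, zt⁆} ⊔ Z3, ∀ w ∈ W, ⁅w, y⁆ ∈ Z2 := by
  constructor
  · refine sup_le ((Subgroup.closure_le W).2 ?_) S.h3W
    rintro y ⟨v, hv, rfl⟩
    exact t74_ycen_comm_mem S.nW hv zt
  · intro y hy w hw
    have hle : closure {y : T | ∃ v ∈ W, y = ⁅v, zt⁆} ⊔ Z3 ≤ t74_ycen_K S w hw := by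
      refine sup_le ((Subgroup.closure_le _).2 ?_) ?_
      · rintro y ⟨v, hv, rfl⟩
        exact ⟨t74_ycen_comm_mem S.nW hv zt, (bform_eq_zero_iff Z2 w ⁅v, zt⁆).1 (hγ w hw v hv)⟩
      · intro k hk
        refine ⟨S.h3W hk, ?_⟩
        have h : ⁅w, k⁆ = (w * k * w⁻¹) * k⁻¹ := by rw [commutatorElement_def]
        rw [h, t74_ycen_conj S hw hk, mul_inv_cancel]
        exact Z2.one_mem
    exact (hle hy).2

end Cfsg.Agent.Helper16.T74
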