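import Mathlib
import Cfsg.Agent.Lib.Helper16.T74Defs

/-!
# S3174 piece T74-YSIZE: a subgroup of `W` whose elements commute with `zt` modulo `Z3` has
order at most `2^7`.
-/

namespace Cfsg.Agent.Helper16.T74

open scoped commutatorElement
open Subgroup

/-- counting lemma: `σ` a fixed-point-free involution of a set with `2 * n` elements; a family of
`σ`-invariant functions to `ZMod 2` indexed by `C`, whose fibres have at most `m` elements in the
sense that they inject into a type of size `m`. -/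
theorem t74_ysize_transversal {Q : Type*} [Fintype Q] [DecidableEq Q] (σ : Q → Q)
    (hσ2 : ∀ c, σ (σ c) = c) (hσ1 : ∀ c, σ c ≠ c) :
    ∃ p : Q → Prop, ∃ _ : DecidablePred p, 2 * Fintype.card {c : Q // p c} = Fintype.card Q ∧
      ∀ c, ¬ p c → p (σ c) := by
  classical
  let e : Q ≃ Fin (Fintype.card Q) := Fintype.equivFin Q
  let p : Q → Prop := fun c => e c < e (σ c)
  have hpσ : ∀ c, ¬ p c → p (σ c) := by
    intro c hc
    show e (σ c) < e (σ (σ c))
    rw [hσ2]
    rcases lt_trichotomy (e c) (e (σ c)) with h1 | h1 | h1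
    · exact absurd h1 hc
    · exact absurd (e.injective h1).symm (hσ1 c)
    · exact h1
  have hflip : ∀ c, p c ↔ ¬ p (σ c) := by
    intro c
    constructor
    · intro h h'
      have h'' : e (σ c) < e (σ (σ c)) := h'
      rw [hσ2] at h''
      exact absurd (lt_trans h h'') (lt_irrefl _)
    · intro h
      have := hpσ (σ c) h
      rw [hσ2] at this
      exact this
  refine ⟨p, inferInstance, ?_, hpσ⟩
  let τ : Equiv.Perm Q := ⟨σ, σ, hσ2, hσ2⟩
  have heq : {c : Q // p c} ≃ {c : Q // ¬ p c} := Equiv.subtypeEquiv τ (fun c => hflip c)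
  have h1 : Fintype.card {c : Q // ¬ p c} = Fintype.card Q - Fintype.card {c : Q // p c} :=
    Fintype.card_subtype_compl p
  have h2 : Fintype.card {c : Q // p c} = Fintype.card {c : Q // ¬ p c} := Fintype.card_congr heq
  have h3 : Fintype.card {c : Q // p c} ≤ Fintype.card Q := Fintype.card_subtype_le p
  omega

/-- T74-YSIZE -/
theorem card_fix_le {T : Type*} [Group T] [Finite T] {W Z1 Z2 Z3 : Subgroup T}
    (S : Setting W Z1 Z2 Z3) (θ : T → (T ⧸ W → ZMod 2)) (hθ : IsTheta W Z3 θ)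
    (zt : T) (hztW : zt ∉ W) (hzt2 : zt ^ 2 ∈ W)
    (C : Subgroup T) (hCW : C ≤ W) (hC : ∀ v ∈ C, ⁅v, zt⁆ ∈ Z3) :
    Nat.card ↥C ≤ 2 ^ 7 := by
  classical
  have hWn : W.Normal := S.nW
  let instQ : Fintype (T ⧸ W) := Fintype.ofFinite _
  -- basic facts on θ
  have h1 : θ 1 = 0 := (hθ.ker 1 W.one_mem).2 Z3.one_mem
  have hinv : ∀ v ∈ W, θ v⁻¹ = θ v := by
    intro v hv
    have h := hθ.add v hv v⁻¹ (W.inv_mem hv)
    rw [mul_inv_cancel, h1] at h
    funext c
    have hc := congrFun h c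
    simp only [Pi.zero_apply, Pi.add_apply] at hc
    exact (CharTwo.add_eq_zero.1 hc.symm).symm
  have hfib : ∀ u ∈ W, ∀ v ∈ W, θ u = θ v → u⁻¹ * v ∈ Z3 := by
    intro u hu v hv h
    rw [← hθ.ker _ (W.mul_mem (W.inv_mem hu) hv), hθ.add _ (W.inv_mem hu) _ hv, hinv u hu, h]
    funext c
    simp only [Pi.zero_apply, Pi.add_apply]
    exact CharTwo.add_self_eq_zero _
  -- the involution
  let σ : T ⧸ W → T ⧸ W := fun c => (zt⁻¹ : T) • c
  have hσmk : ∀ h : T, σ (h : T ⧸ W) = ((zt⁻¹ * h : T) : T ⧸ W) := fun h => rfl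
  have hσ2 : ∀ c, σ (σ c) = c := by
    intro c
    induction c using QuotientGroup.induction_on with
    | H h =>
      rw [hσmk, hσmk, QuotientGroup.eq]
      have e : (zt⁻¹ * (zt⁻¹ * h))⁻¹ * h = h⁻¹ * zt ^ 2 * h⁻¹⁻¹ := by group
      rw [e]
      exact S.nW.conj_mem _ hzt2 _
  have hσ1 : ∀ c, σ c ≠ c := by
    intro c
    induction c using QuotientGroup.induction_on with
    | H h =>
      rw [hσmk]
      intro hh
      rw [QuotientGroup.eq] at hh
      apply hztW
      have e : zt = h * ((zt⁻¹ * h)⁻¹ * h) * h⁻¹ := by group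
      rw [e]
      exact S.nW.conj_mem _ hh _
  -- invariance of `θ v`
  have hinvar : ∀ v ∈ C, ∀ c : T ⧸ W, θ v (σ c) = θ v c := by
    intro v hv c
    induction c using QuotientGroup.induction_on with
    | H h =>
      have hvW := hCW hv
      have hc : ⁅v, zt⁆ ∈ Z3 := hC v hv
      have e1 : zt * v⁻¹ * zt⁻¹ = v⁻¹ * ⁅v, zt⁆ := by
        rw [commutatorElement_def]
        group
      have e2 : θ (zt * v⁻¹ * zt⁻¹) = θ v := by
        rw [e1, hθ.add _ (W.inv_mem hvW) _ (S.h3W hc), (hθ.ker _ (S.h3W hc)).2 hc, add_zero,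
          hinv v hvW]
      have e3 := hθ.equi v⁻¹ (W.inv_mem hvW) zt h
      rw [e2, hinv v hvW] at e3
      rw [hσmk]
      exact e3.symm
  obtain ⟨p, hdec, hcard, hp⟩ := t74_ysize_transversal σ hσ2 hσ1
  have hQ : Fintype.card (T ⧸ W) = 8 := by
    rw [← Nat.card_eq_fintype_card, ← Subgroup.index_eq_card, S.idx]
  have hR : Fintype.card {c : T ⧸ W // p c} = 4 := by omega
  -- invariant functions agreeing on the transversal are equal
  have hagree : ∀ u ∈ C, ∀ v ∈ C, (fun r : {c : T ⧸ W // p c} => θ u r.1) =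
      (fun r : {c : T ⧸ W // p c} => θ v r.1) → θ u = θ v := by
    intro u hu v hv h
    funext c
    by_cases hc : p c
    · exact congrFun h ⟨c, hc⟩
    · have h2 := congrFun h ⟨σ c, hp c hc⟩
      simp only at h2
      rw [hinvar u hu c, hinvar v hv c] at h2
      exact h2
  -- representatives of the fibres
  let rep : ({c : T ⧸ W // p c} → ZMod 2) → T := fun φ =>
    if h : ∃ u, u ∈ C ∧ (fun r : {c : T ⧸ W // p c} => θ u r.1) = φ then h.choose else 1
  have hrep : ∀ v ∈ C, rep (fun r : {c : T ⧸ W // p c} => θ v r.1) ∈ C ∧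
      (fun r : {c : T ⧸ W // p c} => θ (rep (fun r : {c : T ⧸ W // p c} => θ v r.1)) r.1) =
        (fun r : {c : T ⧸ W // p c} => θ v r.1) := by
    intro v hv
    have hex : ∃ u, u ∈ C ∧ (fun r : {c : T ⧸ W // p c} => θ u r.1) =
        (fun r : {c : T ⧸ W // p c} => θ v r.1) := ⟨v, hv, rfl⟩
    have : rep (fun r : {c : T ⧸ W // p c} => θ v r.1) = hex.choose := dif_pos hex
    rw [this]
    exact hex.choose_spec
  have hmem : ∀ v : ↥C, (rep (fun r : {c : T ⧸ W // p c} => θ (v : T) r.1))⁻¹ * (v : T) ∈ Z3 := by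
    intro v
    obtain ⟨h1', h2'⟩ := hrep v v.2
    exact hfib _ (hCW h1') _ (hCW v.2) (hagree _ h1' _ v.2 h2')
  let F : ↥C → ({c : T ⧸ W // p c} → ZMod 2) × ↥Z3 := fun v =>
    (fun r => θ (v : T) r.1, ⟨_, hmem v⟩)
  have hF : Function.Injective F := by
    intro v v' hvv'
    have h1' : (fun r : {c : T ⧸ W // p c} => θ (v : T) r.1) =
        (fun r : {c : T ⧸ W // p c} => θ (v' : T) r.1) := congrArg Prod.fst hvv'
    have h2' := congrArg (fun x => ((x.2 : ↥Z3) : T)) hvv'
    simp only [F] at h2'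
    rw [h1'] at h2'
    exact Subtype.ext (mul_left_cancel h2')
  have hle := Nat.card_le_card_of_injective F hF
  have htarget : Nat.card (({c : T ⧸ W // p c} → ZMod 2) × ↥Z3) = 2 ^ 7 := by
    rw [Nat.card_prod, S.c3, Nat.card_eq_fintype_card, Fintype.card_fun, ZMod.card, hR]
    norm_num
  rw [htarget] at hle
  exact hle

end Cfsg.Agent.Helper16.T74
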