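import Mathlib
import Cfsg.Agent.Lib.Helper16.T74Defs

/-!
# T74-Z3EXP (helper20 for helper16): a subgroup generated by commutators of a class-two group whose
squares are central has exponent two.
-/

namespace Cfsg.Agent.Helper16.T74

open scoped commutatorElement
open Subgroup

theorem t74_z3exp_comm_sq {T : Type*} [Group T] (W Z3 : Subgroup T)
    (hcen : ∀ z ∈ Z3, ∀ w ∈ W, z * w = w * z) (hsq : ∀ w ∈ W, w ^ 2 ∈ Z3)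
    (hcomm : ∀ u ∈ W, ∀ v ∈ W, ⁅u, v⁆ ∈ Z3) (u v : T) (hu : u ∈ W) (hv : v ∈ W) :
    ⁅u, v⁆ ^ 2 = 1 := by
  have hc : ⁅u, v⁆ * u = u * ⁅u, v⁆ := hcen _ (hcomm u hu v hv) u hu
  have h2 : u ^ 2 * v = v * u ^ 2 := hcen _ (hsq u hu) v hv
  have e1 : ⁅u, v⁆ ^ 2 = u * ⁅u, v⁆ * v * u⁻¹ * v⁻¹ := by
    rw [pow_two]
    calc ⁅u, v⁆ * ⁅u, v⁆ = ⁅u, v⁆ * (u * v * u⁻¹ * v⁻¹) := by rw [commutatorElement_def]
      _ = (⁅u, v⁆ * u) * v * u⁻¹ * v⁻¹ := by group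
      _ = (u * ⁅u, v⁆) * v * u⁻¹ * v⁻¹ := by rw [hc]
  have e2 : u * ⁅u, v⁆ * v * u⁻¹ * v⁻¹ = (u ^ 2 * v) * u⁻¹ * u⁻¹ * v⁻¹ := by
    rw [commutatorElement_def, pow_two]; group
  rw [e1, e2, h2]; group

theorem exp_two_of_class_two {T : Type*} [Group T] (W Z3 : Subgroup T) (h3W : Z3 ≤ W)
    (hcen : ∀ z ∈ Z3, ∀ w ∈ W, z * w = w * z) (hsq : ∀ w ∈ W, w ^ 2 ∈ Z3)
    (hcomm : ∀ u ∈ W, ∀ v ∈ W, ⁅u, v⁆ ∈ Z3)
    (hgen : Z3 ≤ closure {y : T | ∃ u ∈ W, ∃ v ∈ W, y = ⁅u, v⁆}) :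
    ∀ z ∈ Z3, z ^ 2 = 1 := by
  let S : Subgroup T :=
    { carrier := {z | z ∈ Z3 ∧ z ^ 2 = 1}
      one_mem' := ⟨Z3.one_mem, one_pow 2⟩
      mul_mem' := by
        rintro a b ⟨ha, ha2⟩ ⟨hb, hb2⟩
        refine ⟨Z3.mul_mem ha hb, ?_⟩
        have hab : Commute a b := hcen a ha b (h3W hb)
        rw [hab.mul_pow, ha2, hb2, one_mul]
      inv_mem' := by
        rintro a ⟨ha, ha2⟩
        refine ⟨Z3.inv_mem ha, ?_⟩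
        rw [inv_pow, ha2, inv_one] }
  have hle : closure {y : T | ∃ u ∈ W, ∃ v ∈ W, y = ⁅u, v⁆} ≤ S := by
    rw [closure_le]
    rintro y ⟨u, hu, v, hv, rfl⟩
    exact ⟨hcomm u hu v hv, t74_z3exp_comm_sq W Z3 hcen hsq hcomm u v hu hv⟩
  intro z hz
  exact (hle (hgen hz)).2

end Cfsg.Agent.Helper16.T74
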