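import Mathlib
import Cfsg.Agent.Lib.Helper16.T74Defs

/-!
# S3174 piece T74-BRDER: `DerT W = W'` as a subgroup of `T`: normal, inside `W`, generated by the
commutators of `W`, order
-/

namespace Cfsg.Agent.Helper16.T74

open scoped commutatorElement
open Subgroup

theorem t74_brder_eq {T : Type*} [Group T] (W : Subgroup T) : DerT W = ⁅W, W⁆ := by
  unfold DerT
  exact Subgroup.map_subtype_commutator W

/-- T74-BRDER -/
theorem derT_facts {T : Type*} [Group T] [Finite T] (W : Subgroup T) [W.Normal] :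
    (DerT W).Normal ∧ DerT W ≤ W ∧ (∀ u ∈ W, ∀ v ∈ W, ⁅u, v⁆ ∈ DerT W) ∧
      DerT W = closure {y : T | ∃ u ∈ W, ∃ v ∈ W, y = ⁅u, v⁆} ∧
      Nat.card ↥(DerT W) = Nat.card ↥(commutator ↥W) := by
  refine ⟨?_, ?_, ?_, ?_, ?_⟩
  · rw [t74_brder_eq]
    exact Subgroup.commutator_normal W W
  · unfold DerT
    exact Subgroup.map_subtype_le _
  · intro u hu v hv
    rw [t74_brder_eq]
    exact Subgroup.commutator_mem_commutator hu hv
  · rw [t74_brder_eq, Subgroup.commutator_def]
    congr 1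
    ext y
    constructor
    · rintro ⟨u, hu, v, hv, rfl⟩
      exact ⟨u, hu, v, hv, rfl⟩
    · rintro ⟨u, hu, v, hv, rfl⟩
      exact ⟨u, hu, v, hv, rfl⟩
  · unfold DerT
    exact Subgroup.card_map_of_injective (Subgroup.subtype_injective W)

end Cfsg.Agent.Helper16.T74
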