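import Mathlib
import Cfsg.Agent.Lib.Helper16.T74Defs

/-!
# S3174 piece T74-YCARD: `|⟨[v, zt] | v ∈ W⟩ Z₃| ≥ 2^7` when `{v ∈ W | [v, zt] ∈ Z₃}` has order `≤ 2^7`
-/

namespace Cfsg.Agent.Helper16.T74

open scoped commutatorElement
open Subgroup

/-- `|A| = |f(A)| · |A ∩ ker f|`. -/
theorem t74_ycard_card_map {G H : Type*} [Group G] [Group H] [Finite G] (f : G →* H)
    (A : Subgroup G) :
    Nat.card A = Nat.card (A.map f) * Nat.card (A ⊓ f.ker : Subgroup G) := by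
  have h1 : Nat.card A = Nat.card (A ⧸ (f.domRestrict A).ker) * Nat.card (f.domRestrict A).ker :=
    Subgroup.card_eq_card_quotient_mul_card_subgroup _
  have h2 : Nat.card (A ⧸ (f.domRestrict A).ker) = Nat.card (A.map f) := by
    rw [Nat.card_congr (QuotientGroup.quotientKerEquivRange (f.domRestrict A)).toEquiv,
      MonoidHom.domRestrict_range]
  have h3 : Nat.card (f.domRestrict A).ker = Nat.card (A ⊓ f.ker : Subgroup G) := by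
    rw [MonoidHom.ker_domRestrict, ← Subgroup.inf_subgroupOf_left]
    exact Nat.card_congr (Subgroup.subgroupOfEquivOfLe inf_le_left).toEquiv
  rw [h1, h2, h3]

theorem t74_ycard_comm_mem {T : Type*} [Group T] {W : Subgroup T} (hW : W.Normal) {v : T}
    (hv : v ∈ W) (g : T) : ⁅v, g⁆ ∈ W := by
  have h : ⁅v, g⁆ = v * (g * v⁻¹ * g⁻¹) := by
    rw [commutatorElement_def]; group
  rw [h]
  exact W.mul_mem hv (hW.conj_mem _ (W.inv_mem hv) g)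

/-- `v ↦ ⁅v, zt⁆ Z₃` is a homomorphism `W → T ⧸ Z₃`. -/
theorem t74_ycard_hom {T : Type*} [Group T] {W Z1 Z2 Z3 : Subgroup T}
    (S : Setting W Z1 Z2 Z3) (zt : T) [Z3.Normal] (u v : T) (hu : u ∈ W) (hv : v ∈ W) :
    (QuotientGroup.mk ⁅u * v, zt⁆ : T ⧸ Z3) =
      (QuotientGroup.mk ⁅u, zt⁆ : T ⧸ Z3) * (QuotientGroup.mk ⁅v, zt⁆ : T ⧸ Z3) := by
  have hc : ⁅v, zt⁆ ∈ W := t74_ycard_comm_mem S.nW hv zt
  have hd : ⁅u, zt⁆ ∈ W := t74_ycard_comm_mem S.nW hu zt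
  have h1 : ⁅u * v, zt⁆ = (u * ⁅v, zt⁆ * u⁻¹) * ⁅u, zt⁆ := by
    simp only [commutatorElement_def]; group
  have h2 : (QuotientGroup.mk (u * ⁅v, zt⁆ * u⁻¹) : T ⧸ Z3) = QuotientGroup.mk ⁅v, zt⁆ := by
    rw [QuotientGroup.eq]
    have h : (u * ⁅v, zt⁆ * u⁻¹)⁻¹ * ⁅v, zt⁆ = ⁅u, ⁅v, zt⁆⁻¹⁆ := by
      rw [commutatorElement_def u]; group
    rw [h]
    exact S.comm u hu _ (W.inv_mem hc)
  have h3 : (QuotientGroup.mk (⁅v, zt⁆ * ⁅u, zt⁆) : T ⧸ Z3) = QuotientGroup.mk (⁅u, zt⁆ * ⁅v, zt⁆) := by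
    rw [QuotientGroup.eq]
    have h : (⁅v, zt⁆ * ⁅u, zt⁆)⁻¹ * (⁅u, zt⁆ * ⁅v, zt⁆) = ⁅⁅u, zt⁆⁻¹, ⁅v, zt⁆⁻¹⁆ := by
      rw [commutatorElement_def (⁅u, zt⁆⁻¹)]; group
    rw [h]
    exact S.comm _ (W.inv_mem hd) _ (W.inv_mem hc)
  rw [h1, QuotientGroup.mk_mul, h2, ← QuotientGroup.mk_mul, h3, QuotientGroup.mk_mul]

/-- T74-YCARD -/
theorem card_Y_ge {T : Type*} [Group T] [Finite T] {W Z1 Z2 Z3 : Subgroup T}
    (S : Setting W Z1 Z2 Z3) (zt : T)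
    (hC : ∀ C : Subgroup T, C ≤ W → (∀ v ∈ C, ⁅v, zt⁆ ∈ Z3) → Nat.card ↥C ≤ 2 ^ 7) :
    2 ^ 7 ≤ Nat.card ↥(closure {y : T | ∃ v ∈ W, y = ⁅v, zt⁆} ⊔ Z3) := by
  haveI : Z3.Normal := S.n3
  set Y : Subgroup T := closure {y : T | ∃ v ∈ W, y = ⁅v, zt⁆} ⊔ Z3 with hY
  -- the homomorphism
  let ψ : ↥W →* T ⧸ Z3 := MonoidHom.mk' (fun v => (QuotientGroup.mk ⁅(v : T), zt⁆ : T ⧸ Z3))
    (fun u v => t74_ycard_hom S zt u v u.2 v.2)
  have hψ : ∀ v : ↥W, ψ v = (QuotientGroup.mk ⁅(v : T), zt⁆ : T ⧸ Z3) := fun v => rfl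
  -- the kernel
  have hker : Nat.card ψ.ker ≤ 2 ^ 7 := by
    have h1 : Nat.card ↥(ψ.ker.map W.subtype) = Nat.card ψ.ker :=
      Subgroup.card_map_of_injective (Subgroup.subtype_injective W)
    rw [← h1]
    apply hC
    · rintro _ ⟨v, _, rfl⟩
      exact v.2
    · rintro _ ⟨v, hv, rfl⟩
      have := MonoidHom.mem_ker.1 hv
      rw [hψ, QuotientGroup.eq_one_iff] at this
      exact this
  -- the range
  have hcard : Nat.card ↥W = Nat.card ψ.range * Nat.card ψ.ker := by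
    rw [Subgroup.card_eq_card_quotient_mul_card_subgroup ψ.ker,
      Nat.card_congr (QuotientGroup.quotientKerEquivRange ψ).toEquiv]
  have hrange : 2 ^ 4 ≤ Nat.card ψ.range := by
    have h1 : 2 ^ 11 ≤ Nat.card ψ.range * 2 ^ 7 := by
      rw [← S.cW, hcard]
      exact Nat.mul_le_mul_left _ hker
    omega
  have hle : ψ.range ≤ Y.map (QuotientGroup.mk' Z3) := by
    rintro _ ⟨v, rfl⟩
    refine ⟨⁅(v : T), zt⁆, ?_, rfl⟩
    exact le_sup_left (a := closure {y : T | ∃ v ∈ W, y = ⁅v, zt⁆}) (b := Z3)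
      (Subgroup.subset_closure ⟨v, v.2, rfl⟩)
  have hmap : 2 ^ 4 ≤ Nat.card ↥(Y.map (QuotientGroup.mk' Z3)) :=
    le_trans hrange (Subgroup.card_le_of_le hle)
  have hYc := t74_ycard_card_map (QuotientGroup.mk' Z3) Y
  rw [QuotientGroup.ker_mk', inf_eq_right.2 (le_sup_right : Z3 ≤ Y), S.c3] at hYc
  rw [hYc]
  calc 2 ^ 7 = 2 ^ 4 * 8 := by norm_num
    _ ≤ _ := Nat.mul_le_mul_right _ hmap

end Cfsg.Agent.Helper16.T74
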